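import Mathlib

/-!
Two commutator-type relations make a whole lattice of conjugates commute; cyclic modules.
-/

set_option autoImplicit false

namespace CfsgLib.SL2Pres

open Polynomial

variable {G : Type*} [Group G]

/-- The `d`-th conjugate of `u` by `h`. -/
def cj (h u : G) (d : ℤ) : G := h ^ d * u * (h ^ d)⁻¹

theorem cj_zero (h u : G) : cj h u 0 = u := by simp [cj]

theorem cj_one (h u : G) : cj h u 1 = h * u * h⁻¹ := by simp [cj]

theorem cj_conj (h u : G) (c d : ℤ) : h ^ c * cj h u d * (h ^ c)⁻¹ = cj h u (c + d) := by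
  simp only [cj, zpow_add]
  group

theorem map_cj {H : Type*} [Group H] (φ : G →* H) (h u : G) (d : ℤ) :
    φ (cj h u d) = cj (φ h) (φ u) d := by simp [cj]

theorem commute_shift {h u : G} {c d : ℤ} :
    Commute (cj h u c) (cj h u d) ↔ Commute u (cj h u (d - c)) := by
  have e1 : cj h u c = MulAut.conj (h ^ c) u := rfl
  have e2 : cj h u d = MulAut.conj (h ^ c) (cj h u (d - c)) := by
    rw [MulAut.conj_apply, cj_conj, add_sub_cancel]
  rw [e1, e2]
  exact ⟨fun hc => by simpa [Commute, SemiconjBy] using hc.map (MulAut.conj (h ^ c)).symm.toMonoidHom,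
    fun hc => hc.map (MulAut.conj (h ^ c)).toMonoidHom⟩

/-- If `u_a = u_b u` and `u`, `u_a` commute, `u` commutes with the whole lattice of conjugates. -/
theorem commute_lattice {h u : G} {a b : ℤ} (tri : cj h u a = cj h u b * u)
    (comm : Commute u (cj h u a)) : ∀ i j : ℤ, Commute u (cj h u (i * a + j * b)) := by
  have tri' : ∀ d, cj h u (d + a) = cj h u (d + b) * cj h u d := by
    intro d
    rw [← cj_conj, ← cj_conj h u d b, tri]
    simp only [cj]
    group
  set P : ℤ → ℤ → Prop := fun i j => Commute u (cj h u (i * a + j * b)) with hP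
  have sym : ∀ d, Commute u (cj h u d) → Commute u (cj h u (-d)) := by
    intro d hd
    have h1 : Commute (cj h u 0) (cj h u d) := by rwa [cj_zero]
    have := commute_shift.1 h1.symm
    rwa [zero_sub] at this
  have up1 : ∀ d, Commute u (cj h u d) → Commute u (cj h u (d + a)) → Commute u (cj h u (d + b)) := by
    intro d h1 h2
    rw [show cj h u (d + b) = cj h u (d + a) * (cj h u d)⁻¹ by rw [tri', mul_inv_cancel_right]]
    exact h2.mul_right h1.inv_right
  have up2 : ∀ d, Commute u (cj h u d) → Commute u (cj h u (d + b)) → Commute u (cj h u (d + a)) := by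
    intro d h1 h2
    rw [tri']
    exact h2.mul_right h1
  have up3 : ∀ d, Commute u (cj h u (d + a)) → Commute u (cj h u (d + b)) → Commute u (cj h u d) := by
    intro d h1 h2
    rw [show cj h u d = (cj h u (d + b))⁻¹ * cj h u (d + a) by rw [tri', inv_mul_cancel_left]]
    exact h2.inv_right.mul_right h1
  have dn : ∀ {d e : ℤ}, d = -e → Commute u (cj h u e) → Commute u (cj h u d) := by
    rintro d e rfl he; exact sym e he
  have col : ∀ j, P 0 j ∧ P 1 j := by
    intro j
    induction j using Int.induction_on with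
    | zero =>
      refine ⟨?_, by simpa [hP] using comm⟩
      simp [hP, cj_zero]
    | succ j ih =>
      obtain ⟨h0, h1⟩ := ih
      simp only [hP] at h0 h1 ⊢
      have k0 : Commute u (cj h u (0 * a + ((j : ℤ) + 1) * b)) := by
        rw [show 0 * a + ((j : ℤ) + 1) * b = (0 * a + (j : ℤ) * b) + b by ring]
        refine up1 _ h0 ?_
        rw [show 0 * a + (j : ℤ) * b + a = 1 * a + (j : ℤ) * b by ring]
        exact h1
      refine ⟨k0, dn (e := -(1 * a + ((j : ℤ) + 1) * b)) (by ring) (up3 _ ?_ ?_)⟩
      · exact dn (by ring) k0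
      · exact dn (by ring) h1
    | pred j ih =>
      obtain ⟨h0, h1⟩ := ih
      simp only [hP] at h0 h1 ⊢
      have k1 : Commute u (cj h u (1 * a + (-(j : ℤ) - 1) * b)) := by
        refine dn (e := (-(1 * a + -(j : ℤ) * b)) + b) (by ring) (up1 _ (dn (by ring) h1) ?_)
        exact dn (by ring) h0
      refine ⟨up3 _ ?_ ?_, k1⟩
      · rw [show 0 * a + (-(j : ℤ) - 1) * b + a = 1 * a + (-(j : ℤ) - 1) * b by ring]; exact k1
      · rw [show 0 * a + (-(j : ℤ) - 1) * b + b = 0 * a + -(j : ℤ) * b by ring]; exact h0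
  intro i
  induction i using Int.induction_on with
  | zero => exact fun j => (col j).1
  | succ i ih =>
    intro j
    rw [show ((i : ℤ) + 1) * a + j * b = ((i : ℤ) * a + j * b) + a by ring]
    refine up2 _ (ih j) ?_
    rw [show (i : ℤ) * a + j * b + b = (i : ℤ) * a + (j + 1) * b by ring]
    exact ih _
  | pred i ih =>
    intro j
    refine dn (e := (-(-(i : ℤ) * a + j * b)) + a) (by ring) (up2 _ (dn (by ring) (ih j)) ?_)
    exact dn (e := -(i : ℤ) * a + (j - 1) * b) (by ring) (ih _)

/-- The group generated by the conjugates with index a multiple of `a`. -/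
def span' (h u : G) (a : ℤ) : Subgroup G :=
  Subgroup.closure (Set.range fun i : ℤ => cj h u (i * a))

theorem span'_comm {h u : G} {a : ℤ} (hall : ∀ i : ℤ, Commute u (cj h u (i * a)))
    {x y : G} (hx : x ∈ span' h u a) (hy : y ∈ span' h u a) : Commute x y := by
  refine Subgroup.closure_induction₂ (p := fun x y _ _ => Commute x y) ?_ ?_ ?_ ?_ ?_ ?_ ?_ hx hy
  · rintro _ _ ⟨i, rfl⟩ ⟨j, rfl⟩
    rw [commute_shift, ← sub_mul]
    exact hall _
  · exact fun x _ => Commute.one_left x
  · exact fun x _ => Commute.one_right x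
  · exact fun _ _ _ _ _ _ h1 h2 => h1.mul_left h2
  · exact fun _ _ _ _ _ _ h1 h2 => h1.mul_right h2
  · exact fun _ _ _ _ h1 => h1.inv_left
  · exact fun _ _ _ _ h1 => h1.inv_right

/-- The word attached to an integer polynomial. -/
noncomputable def polyWord (h u : G) (a : ℤ) (P : ℤ[X]) : G :=
  ((List.range (P.natDegree + 1)).map fun i : ℕ => cj h u ((i : ℤ) * a) ^ P.coeff i).prod

theorem map_polyWord {H : Type*} [Group H] (φ : G →* H) (h u : G) (a : ℤ) (P : ℤ[X]) :
    φ (polyWord h u a P) = polyWord (φ h) (φ u) a P := by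
  simp [polyWord, map_list_prod, Function.comp_def, map_cj]

theorem polyWord_mem (h u : G) (a : ℤ) (P : ℤ[X]) : polyWord h u a P ∈ span' h u a := by
  refine Subgroup.list_prod_mem _ fun x hx => ?_
  obtain ⟨i, -, rfl⟩ := List.mem_map.1 hx
  exact Subgroup.zpow_mem _ (Subgroup.subset_closure (Set.mem_range_self _)) _

section Module

variable (h u : G) (a : ℤ) (hall : ∀ i : ℤ, Commute u (cj h u (i * a)))

/-- The span as a commutative group. -/
noncomputable abbrev spanComm : CommGroup (span' h u a) :=
  { (span' h u a).toGroup with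
    mul_comm := fun x y => Subtype.ext (span'_comm hall x.2 y.2) }

theorem span'_shift {x : G} (hx : x ∈ span' h u a) : h ^ a * x * (h ^ a)⁻¹ ∈ span' h u a := by
  refine Subgroup.closure_induction (p := fun x _ => h ^ a * x * (h ^ a)⁻¹ ∈ span' h u a)
    ?_ ?_ ?_ ?_ hx
  · rintro _ ⟨i, rfl⟩
    rw [cj_conj, show a + i * a = (i + 1) * a by ring]
    exact Subgroup.subset_closure (Set.mem_range_self _)
  · simp
  · intro x y _ _ h1 h2
    rw [show h ^ a * (x * y) * (h ^ a)⁻¹
      = (h ^ a * x * (h ^ a)⁻¹) * (h ^ a * y * (h ^ a)⁻¹) by group]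
    exact mul_mem h1 h2
  · intro x _ h1
    rw [show h ^ a * x⁻¹ * (h ^ a)⁻¹ = (h ^ a * x * (h ^ a)⁻¹)⁻¹ by group]
    exact inv_mem h1

end Module

/-- Main construction: the cyclic module is a quotient of the field. -/
theorem exists_hom {F : Type*} [Field F] {p : ℕ} [CharP F p] (h u : G) (a : ℤ)
    (hall : ∀ i : ℤ, Commute u (cj h u (i * a))) (A s : F)
    (hgen : ∀ c : F, ∃ P : ℤ[X], aeval A P = c)
    (f Ps : ℤ[X]) (hp : u ^ p = 1) (hf : polyWord h u a f = 1)
    (hfker : ∀ P : ℤ[X], aeval A P = 0 → ∃ Q R : ℤ[X], P = f * Q + C (p : ℤ) * R)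
    (hPs : h * u * h⁻¹ = polyWord h u a Ps) (hPsA : aeval A Ps = s) :
    ∃ X : Multiplicative F →* G, X (Multiplicative.ofAdd 1) = u ∧
      ∀ c : F, h * X (Multiplicative.ofAdd c) * h⁻¹ = X (Multiplicative.ofAdd (s * c)) := by
  classical
  letI : CommGroup (span' h u a) := spanComm h u a hall
  let τ : span' h u a →* span' h u a :=
    { toFun := fun x => ⟨h ^ a * x.1 * (h ^ a)⁻¹, span'_shift h u a x.2⟩
      map_one' := Subtype.ext (by simp)
      map_mul' := fun x y => Subtype.ext (by simp only [Subgroup.coe_mul]; group) }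
  let T : Module.End ℤ (Additive (span' h u a)) := (MonoidHom.toAdditive τ).toIntLinearMap
  let u₀ : Additive (span' h u a) := Additive.ofMul
    ⟨u, by have := Subgroup.subset_closure (k := Set.range fun i : ℤ => cj h u (i * a))
             (Set.mem_range_self 0)
           simpa [span', cj_zero] using this⟩
  let ev : ℤ[X] → G := fun P => (Additive.toMul (aeval T P u₀)).1
  have hT : ∀ i : ℕ, (Additive.toMul ((T ^ i) u₀)).1 = cj h u ((i : ℤ) * a) := by
    intro i
    induction i with
    | zero => simp [u₀, cj_zero]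
    | succ i ih =>
      rw [pow_succ', Module.End.mul_apply]
      show h ^ a * (Additive.toMul ((T ^ i) u₀)).1 * (h ^ a)⁻¹ = _
      rw [ih, cj_conj]
      congr 1
      push_cast
      ring
  have evadd : ∀ P Q, ev (P + Q) = ev P * ev Q := fun P Q => by simp [ev]
  have evmon : ∀ (i : ℕ) (n : ℤ), ev (monomial i n) = cj h u ((i : ℤ) * a) ^ n := by
    intro i n
    simp [ev, ← C_mul_X_pow_eq_monomial, ← hT]
  have evword : ∀ P : ℤ[X], polyWord h u a P = ev P := by
    intro P
    have key : ∀ N, ((List.range N).map fun i : ℕ => cj h u ((i : ℤ) * a) ^ P.coeff i).prod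
        = ev (∑ i ∈ Finset.range N, monomial i (P.coeff i)) := by
      intro N
      induction N with
      | zero => simp [ev]
      | succ N ih =>
        rw [List.range_succ, List.map_append, List.prod_append, Finset.sum_range_succ, evadd, ih,
          evmon]
        simp
    rw [polyWord, key, ← P.as_sum_range]
  have hu0 : ev 1 = u := by simp [ev, u₀]
  have evconj : ∀ P : ℤ[X], h * ev P * h⁻¹ = ev (P * Ps) := by
    intro P
    induction P using Polynomial.induction_on' with
    | add P Q hP hQ => rw [add_mul, evadd, evadd, ← hP, ← hQ]; group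
    | monomial i n =>
      rw [evmon]
      have hcomm : ∀ x : span' h u a, ((Additive.toMul ((T ^ i) (Additive.ofMul x)))).1
          = h ^ ((i : ℤ) * a) * x.1 * (h ^ ((i : ℤ) * a))⁻¹ := by
        intro x
        clear * - x
        induction i with
        | zero => simp
        | succ i ih =>
          rw [pow_succ', Module.End.mul_apply]
          show h ^ a * (Additive.toMul ((T ^ i) (Additive.ofMul x))).1 * (h ^ a)⁻¹ = _
          rw [ih, show ((i + 1 : ℕ) : ℤ) * a = a + (i : ℤ) * a by push_cast; ring, zpow_add]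
          group
      have e : ev (monomial i n * Ps) = (h ^ ((i : ℤ) * a) * ev Ps * (h ^ ((i : ℤ) * a))⁻¹) ^ n := by
        simp only [ev, ← C_mul_X_pow_eq_monomial, map_mul, map_pow, aeval_X, Module.End.mul_apply,
          aeval_C, Module.algebraMap_end_apply, toMul_zsmul, Subgroup.coe_zpow]
        rw [← hcomm (Additive.toMul (aeval T Ps u₀)), ofMul_toMul]
      rw [e, ← evword, ← hPs]
      rw [← conj_zpow]
      congr 1
      simp only [cj]
      group
  have evker : ∀ P, aeval A P = 0 → ev P = 1 := by
    intro P hP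
    obtain ⟨Q, R, rfl⟩ := hfker P hP
    rw [evadd]
    have h1 : ev (f * Q) = 1 := by
      have h0 : aeval T f u₀ = 0 := by
        apply Additive.toMul.injective
        apply Subtype.ext
        simpa [toMul_zero, evword, ev] using hf
      simp [ev, mul_comm f, Module.End.mul_apply, h0]
    have h2 : ev (C (p : ℤ) * R) = 1 := by
      have h0 : (p : ℤ) • u₀ = 0 := by
        apply Additive.toMul.injective
        apply Subtype.ext
        simp [u₀, hp]
      simp only [ev, mul_comm (C (p : ℤ)), map_mul, Module.End.mul_apply, aeval_C,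
        Module.algebraMap_end_apply, h0, map_zero]
      rfl
    rw [h1, h2, one_mul]
  choose sec hsec using hgen
  have evwell : ∀ P c, aeval A P = c → ev (sec c) = ev P := by
    intro P c hP
    have := evker (sec c - P) (by rw [map_sub, hsec, hP, sub_self])
    calc ev (sec c) = ev (sec c - P) * ev P := by rw [← evadd, sub_add_cancel]
      _ = ev P := by rw [this, one_mul]
  refine ⟨
    { toFun := fun c => ev (sec c.toAdd)
      map_one' := ?_
      map_mul' := fun c d => ?_ }, ?_, ?_⟩
  · rw [evwell 0 _ (by simp)]; simp [ev]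
  · rw [← evadd]
    exact evwell _ _ (by simp [hsec])
  · show ev (sec 1) = u
    rw [evwell 1 _ (by simp), hu0]
  · intro c
    show h * ev (sec c) * h⁻¹ = ev (sec (s * c))
    rw [evconj]
    exact (evwell _ _ (by rw [map_mul, hsec, hPsA, mul_comm])).symm

end CfsgLib.SL2Pres
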