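import Mathlib
import Cfsg.Agent.Lib.SL2Pres.Abelian

/-!
Normal forms in an abstract group with SL₂-like generators, and a presentation criterion.
-/

set_option autoImplicit false

namespace CfsgLib.SL2Pres

open Multiplicative (ofAdd toAdd)

variable {F : Type*} [Field F]

/-- The rules an abstract SL₂-like triple satisfies. -/
structure Rules (G : Type*) [Group G] (s : F) (N e : ℕ) where
  X : Multiplicative F →* G
  h : G
  w : G
  conj : ∀ c, h * X (ofAdd c) * h⁻¹ = X (ofAdd (s * c))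
  pow_N : h ^ N = 1
  whw : w * h * w⁻¹ = h⁻¹
  ww : w * w = h ^ e

variable {G : Type*} [Group G] {s : F} {N e : ℕ} (D : Rules G s N e)

/-- Membership of the big cell. -/
def Rules.Big (g : G) : Prop :=
  ∃ (a : F) (k : ℕ) (b : F), g = D.X (ofAdd a) * D.h ^ k * D.w * D.X (ofAdd b)

theorem Rules.conj_pow (k : ℕ) (c : F) :
    D.h ^ k * D.X (ofAdd c) = D.X (ofAdd (s ^ k * c)) * D.h ^ k := by
  induction k generalizing c with
  | zero => simp
  | succ k ih =>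
    have h1 : D.h * D.X (ofAdd c) = D.X (ofAdd (s * c)) * D.h := by
      rw [← D.conj, inv_mul_cancel_right]
    rw [pow_succ, mul_assoc, h1, ← mul_assoc, ih, mul_assoc, ← mul_assoc (s ^ k),
      ← pow_succ s k]

theorem Rules.pow_conj (hs : s ≠ 0) (k : ℕ) (c : F) :
    D.X (ofAdd c) * D.h ^ k = D.h ^ k * D.X (ofAdd (c / s ^ k)) := by
  rw [D.conj_pow, mul_div_cancel₀ _ (pow_ne_zero _ hs)]

theorem Rules.X_add (a b : F) : D.X (ofAdd a) * D.X (ofAdd b) = D.X (ofAdd (a + b)) := by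
  rw [← map_mul, ← ofAdd_add]

theorem Rules.w_pow (k : ℕ) : D.w * D.h ^ k = (D.h ^ k)⁻¹ * D.w := by
  rw [← inv_pow, ← D.whw, _root_.conj_pow, inv_mul_cancel_right]

theorem Rules.inv_pow_eq (hN : 0 < N) (k : ℕ) : (D.h ^ k)⁻¹ = D.h ^ (k * (N - 1)) := by
  rw [inv_eq_iff_mul_eq_one, ← pow_add,
    show k + k * (N - 1) = N * k by
      rcases N with _ | n
      · omega
      · simp only [Nat.add_sub_cancel]; ring,
    pow_mul, D.pow_N, one_pow]

theorem Rules.pow_mod (k : ℕ) : D.h ^ (k % N) = D.h ^ k := by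
  conv_rhs => rw [← Nat.mod_add_div k N, pow_add, pow_mul, D.pow_N, one_pow, mul_one]

theorem Rules.big_X_mul {g : G} (hg : D.Big g) (c : F) : D.Big (D.X (ofAdd c) * g) := by
  obtain ⟨a, k, b, rfl⟩ := hg
  exact ⟨c + a, k, b, by rw [← D.X_add]; simp only [mul_assoc]⟩

theorem Rules.big_mul_X {g : G} (hg : D.Big g) (c : F) : D.Big (g * D.X (ofAdd c)) := by
  obtain ⟨a, k, b, rfl⟩ := hg
  exact ⟨a, k, b + c, by rw [← D.X_add]; simp only [mul_assoc]⟩

theorem Rules.big_pow_mul {g : G} (hg : D.Big g) (j : ℕ) : D.Big (D.h ^ j * g) := by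
  obtain ⟨a, k, b, rfl⟩ := hg
  refine ⟨s ^ j * a, j + k, b, ?_⟩
  simp only [← mul_assoc]
  rw [D.conj_pow, pow_add]
  simp only [mul_assoc]

theorem Rules.big_mul_pow (hN : 0 < N) (hs : s ≠ 0) {g : G} (hg : D.Big g) (j : ℕ) :
    D.Big (g * D.h ^ j) := by
  obtain ⟨a, k, b, rfl⟩ := hg
  refine ⟨a, k + j * (N - 1), b / s ^ j, ?_⟩
  rw [mul_assoc, D.pow_conj hs j b, ← mul_assoc, mul_assoc _ D.w, D.w_pow, D.inv_pow_eq hN,
    pow_add]
  simp only [mul_assoc]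

theorem Rules.big_w : D.Big D.w := ⟨0, 0, 0, by simp⟩

theorem Rules.big_w_inv (hN : 0 < N) : D.Big D.w⁻¹ := by
  have : D.w⁻¹ = D.h ^ (e * (N - 1)) * D.w := by
    rw [← D.inv_pow_eq hN, eq_inv_mul_iff_mul_eq, ← D.ww, mul_inv_cancel_right]
  rw [this]
  exact D.big_pow_mul D.big_w _

/-- `c` is covered. -/
def Rules.Cov (c : F) : Prop := D.Big (D.w * D.X (ofAdd c) * D.w⁻¹)

theorem Rules.cov_mul (hN : 0 < N) (hs : s ≠ 0) {c : F} (hc : D.Cov c) (k : ℕ) :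
    D.Cov (s ^ k * c) := by
  have e1 : D.X (ofAdd (s ^ k * c)) = D.h ^ k * D.X (ofAdd c) * (D.h ^ k)⁻¹ := by
    rw [D.conj_pow, mul_inv_cancel_right]
  have e2 : (D.h ^ k)⁻¹ * D.w⁻¹ = D.w⁻¹ * D.h ^ k := by
    rw [← mul_inv_rev, D.w_pow, mul_inv_rev, inv_inv]
  unfold Rules.Cov
  rw [e1, show D.w * (D.h ^ k * D.X (ofAdd c) * (D.h ^ k)⁻¹) * D.w⁻¹
      = D.w * D.h ^ k * D.X (ofAdd c) * ((D.h ^ k)⁻¹ * D.w⁻¹) by group,
    e2, D.w_pow, D.inv_pow_eq hN,
    show D.h ^ (k * (N - 1)) * D.w * D.X (ofAdd c) * (D.w⁻¹ * D.h ^ k)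
      = D.h ^ (k * (N - 1)) * (D.w * D.X (ofAdd c) * D.w⁻¹) * D.h ^ k by group]
  exact D.big_mul_pow hN hs (D.big_pow_mul hc _) _

theorem Rules.cov_one (hN : 0 < N) (hs : s ≠ 0)
    (h3 : (D.X (ofAdd 1) * D.w) ^ 3 = 1) : D.Cov 1 := by
  unfold Rules.Cov
  have key : D.w * D.X (ofAdd 1) * D.w⁻¹
      = D.X (ofAdd (-1)) * D.w⁻¹ * D.X (ofAdd (-1)) * (D.w * D.w)⁻¹ := by
    rw [ofAdd_neg, map_inv]
    rw [pow_succ, pow_two] at h3
    calc D.w * D.X (ofAdd 1) * D.w⁻¹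
        = (D.X (ofAdd 1))⁻¹
            * (D.X (ofAdd 1) * D.w * (D.X (ofAdd 1) * D.w) * (D.X (ofAdd 1) * D.w))
            * D.w⁻¹ * (D.X (ofAdd 1))⁻¹ * (D.w * D.w)⁻¹ := by group
      _ = _ := by rw [h3, mul_one]
  rw [key, D.ww, D.inv_pow_eq hN]
  exact D.big_mul_pow hN hs (D.big_mul_X (D.big_X_mul (D.big_w_inv hN) _) _) _

theorem Rules.cov_neg_one (hN : 0 < N) (hs : s ≠ 0)
    (h3 : (D.X (ofAdd 1) * D.w) ^ 3 = 1) : D.Cov (-1) := by
  unfold Rules.Cov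
  have key : D.w * D.X (ofAdd (-1)) * D.w⁻¹
      = D.w * D.w * D.X (ofAdd 1) * D.w * D.X (ofAdd 1) := by
    rw [ofAdd_neg, map_inv]
    rw [pow_succ, pow_two] at h3
    calc D.w * (D.X (ofAdd 1))⁻¹ * D.w⁻¹
        = D.w * (D.X (ofAdd 1))⁻¹ * D.w⁻¹
            * (D.X (ofAdd 1) * D.w * (D.X (ofAdd 1) * D.w) * (D.X (ofAdd 1) * D.w))⁻¹⁻¹ := by
          rw [h3, inv_one, inv_one, mul_one]
      _ = _ := by
        rw [inv_inv]
        have h4 : D.X (ofAdd 1) * D.w * (D.X (ofAdd 1) * D.w) * (D.X (ofAdd 1) * D.w) = 1 := h3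
        rw [h4, mul_one]
        rw [← mul_left_inj (D.w * D.X (ofAdd 1))]
        calc D.w * (D.X (ofAdd 1))⁻¹ * D.w⁻¹ * (D.w * D.X (ofAdd 1)) = D.w := by group
          _ = D.w * D.w * D.X (ofAdd 1) * D.w * D.X (ofAdd 1) * (D.w * D.X (ofAdd 1)) := ?_
        have h5 : D.w * D.X (ofAdd 1) * D.w * D.X (ofAdd 1) * D.w * D.X (ofAdd 1) = 1 := by
          calc _ = (D.X (ofAdd 1))⁻¹ * (D.X (ofAdd 1) * D.w * (D.X (ofAdd 1) * D.w)
                * (D.X (ofAdd 1) * D.w)) * D.X (ofAdd 1) := by group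
            _ = 1 := by rw [h4, mul_one, inv_mul_cancel]
        calc D.w = D.w * (D.w * D.X (ofAdd 1) * D.w * D.X (ofAdd 1) * D.w * D.X (ofAdd 1)) := by
              rw [h5, mul_one]
          _ = _ := by group
  rw [key, D.ww]
  refine D.big_mul_X ?_ _
  rw [mul_assoc]
  exact D.big_pow_mul (D.big_X_mul D.big_w _) _

/-- Normal forms. -/
def Rules.NF (g : G) : Prop :=
  (∃ (a : F) (k : ℕ), k < N ∧ g = D.X (ofAdd a) * D.h ^ k) ∨ D.Big g

theorem Rules.nf_all (hN : 0 < N) (hs : s ≠ 0)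
    (hgen : Subgroup.closure ({D.X (ofAdd 1), D.h, D.w} : Set G) = ⊤)
    (hcov : ∀ c : F, c ≠ 0 → D.Cov c) (g : G) : D.NF g := by
  have hX : ∀ c x, D.NF x → D.NF (D.X (ofAdd c) * x) := by
    rintro c x (⟨a, k, hk, rfl⟩ | hx)
    · exact Or.inl ⟨c + a, k, hk, by rw [← D.X_add, mul_assoc]⟩
    · exact Or.inr (D.big_X_mul hx c)
  have hH : ∀ j x, D.NF x → D.NF (D.h ^ j * x) := by
    rintro j x (⟨a, k, hk, rfl⟩ | hx)
    · refine Or.inl ⟨s ^ j * a, (j + k) % N, Nat.mod_lt _ hN, ?_⟩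
      rw [D.pow_mod, ← mul_assoc, D.conj_pow, mul_assoc, pow_add]
    · exact Or.inr (D.big_pow_mul hx j)
  have hW : ∀ x, D.NF x → D.NF (D.w * x) := by
    rintro x (⟨a, k, hk, rfl⟩ | ⟨a, k, b, rfl⟩)
    · refine Or.inr ?_
      rw [D.pow_conj hs, ← mul_assoc]
      exact D.big_mul_X (D.big_mul_pow hN hs D.big_w k) _
    · set i := k * (N - 1) with hi
      have e1 : D.w * (D.X (ofAdd a) * D.h ^ k * D.w * D.X (ofAdd b))
          = D.w * D.X (ofAdd a) * D.w⁻¹ * D.h ^ (e + i) * D.X (ofAdd b) := by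
        have : D.h ^ k * D.w = D.w * D.h ^ i := by
          rw [D.w_pow, hi, ← D.inv_pow_eq hN, inv_inv]
        rw [mul_assoc (D.X (ofAdd a)), this, pow_add, ← D.ww]
        group
      rw [e1]
      rcases eq_or_ne a 0 with rfl | ha
      · refine Or.inl ⟨s ^ (e + i) * b, (e + i) % N, Nat.mod_lt _ hN, ?_⟩
        rw [D.pow_mod, ← D.conj_pow]
        simp
      · exact Or.inr (D.big_mul_X (D.big_mul_pow hN hs (hcov a ha) _) _)
  have hWinv : ∀ x, D.NF x → D.NF (D.w⁻¹ * x) := by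
    intro x hx
    have : D.w⁻¹ = D.h ^ (e * (N - 1)) * D.w := by
      rw [← D.inv_pow_eq hN, eq_inv_mul_iff_mul_eq, ← D.ww, mul_inv_cancel_right]
    rw [this, mul_assoc]
    exact hH _ _ (hW _ hx)
  refine Subgroup.closure_induction_left (p := fun x _ => D.NF x)
    (Or.inl ⟨0, 0, hN, by simp⟩) (fun x hx y _ hy => ?_) (fun x hx y _ hy => ?_)
    (hgen ▸ Subgroup.mem_top g : g ∈ Subgroup.closure _)
  · rcases hx with rfl | rfl | rfl
    · exact hX _ _ hy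
    · simpa using hH 1 _ hy
    · exact hW _ hy
  · rcases hx with rfl | rfl | rfl
    · rw [← map_inv, ← ofAdd_neg]; exact hX _ _ hy
    · rw [show D.h⁻¹ = D.h ^ (1 * (N - 1)) by rw [← D.inv_pow_eq hN, pow_one]]
      exact hH _ _ hy
    · exact hWinv _ hy

/-- A concrete model of the rules. -/
structure Model (T : Type*) [Group T] (s : F) (N e : ℕ) extends Rules T s N e where
  ker_small : ∀ a k, k < N → X (ofAdd a) * h ^ k = 1 → a = 0 ∧ k = 0
  ker_big : ∀ a k b, X (ofAdd a) * h ^ k * w * X (ofAdd b) ≠ 1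
  gen : Subgroup.closure ({X (ofAdd 1), h, w} : Set T) = ⊤

/-- Criterion: relations true in the model and forcing the rules present the model. -/
theorem nonempty_equiv {T : Type*} [Group T] (M : Model T s N e) (hN : 0 < N) (hs : s ≠ 0)
    (hspan : ∀ c : F, ∃ P : Polynomial ℤ, Polynomial.aeval s P = c)
    (R : Finset (FreeGroup (Fin 3)))
    (htrue : ∀ r ∈ R, FreeGroup.lift ![M.X (ofAdd 1), M.h, M.w] r = 1)
    (hforce : ∀ (G : Type) [Group G] (u h w : G),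
      (∀ r ∈ R, FreeGroup.lift ![u, h, w] r = 1) →
        ∃ D : Rules G s N e, D.X (ofAdd 1) = u ∧ D.h = h ∧ D.w = w ∧ ∀ c, c ≠ 0 → D.Cov c) :
    Nonempty (PresentedGroup (↑R : Set (FreeGroup (Fin 3))) ≃* T) := by
  set P := PresentedGroup (↑R : Set (FreeGroup (Fin 3)))
  let o : Fin 3 → P := fun i => PresentedGroup.of i
  have hlift : ![o 0, o 1, o 2] = o := by funext i; fin_cases i <;> rfl
  obtain ⟨D, hu, hh, hw, hcov⟩ := hforce P (o 0) (o 1) (o 2) fun r hr => by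
    rw [hlift]
    have : FreeGroup.lift o = PresentedGroup.mk (↑R : Set (FreeGroup (Fin 3))) :=
      FreeGroup.ext_hom _ _ fun i => by rw [FreeGroup.lift_apply_of]; rfl
    rw [this]
    exact PresentedGroup.one_of_mem hr
  let φ : P →* T := PresentedGroup.toGroup (f := ![M.X (ofAdd 1), M.h, M.w]) htrue
  have φh : φ D.h = M.h := by rw [hh]; exact PresentedGroup.toGroup.of htrue
  have φw : φ D.w = M.w := by rw [hw]; exact PresentedGroup.toGroup.of htrue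
  have φX1 : φ (D.X (ofAdd 1)) = M.X (ofAdd 1) := by
    rw [hu]; exact PresentedGroup.toGroup.of htrue
  have φX : ∀ c, φ (D.X (ofAdd c)) = M.X (ofAdd c) := by
    have hpow : ∀ i : ℕ, φ (D.X (ofAdd (s ^ i))) = M.X (ofAdd (s ^ i)) := by
      intro i
      induction i with
      | zero => simpa using φX1
      | succ i ih => rw [pow_succ', ← D.conj, ← M.conj, map_mul, map_mul, map_inv, ih, φh]
    intro c
    obtain ⟨Q, rfl⟩ := hspan c
    induction Q using Polynomial.induction_on' with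
    | add P Q hP hQ => rw [map_add, ofAdd_add, map_mul, map_mul, map_mul, hP, hQ]
    | monomial i n =>
      rw [Polynomial.aeval_monomial, algebraMap_int_eq, eq_intCast, ← zsmul_eq_mul, ofAdd_zsmul,
        map_zpow, map_zpow, map_zpow, hpow]
  have hgenP : Subgroup.closure ({D.X (ofAdd 1), D.h, D.w} : Set P) = ⊤ := by
    rw [hu, hh, hw, eq_top_iff, ← PresentedGroup.closure_range_of]
    refine Subgroup.closure_mono ?_
    rintro _ ⟨i, rfl⟩
    fin_cases i <;> simp [o]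
  refine ⟨MulEquiv.ofBijective φ ⟨?_, ?_⟩⟩
  · rw [injective_iff_map_eq_one]
    intro g hg
    rcases D.nf_all hN hs hgenP hcov g with ⟨a, k, hk, rfl⟩ | ⟨a, k, b, rfl⟩
    · rw [map_mul, map_pow, φX, φh] at hg
      obtain ⟨rfl, rfl⟩ := M.ker_small a k hk hg
      simp
    · rw [map_mul, map_mul, map_mul, map_pow, φX, φX, φh, φw] at hg
      exact absurd hg (M.ker_big a k b)
  · rw [← MonoidHom.range_eq_top, eq_top_iff, ← M.gen, Subgroup.closure_le]
    rintro x (rfl | rfl | rfl)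
    · exact ⟨_, φX1⟩
    · exact ⟨_, φh⟩
    · exact ⟨_, φw⟩

end CfsgLib.SL2Pres
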