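import Mathlib
import Cfsg.Agent.Lib.SL2Pres.Cover

/-!
Relations for SL₂ and PSL₂ on three generators.
-/

set_option autoImplicit false

namespace CfsgLib.SL2Pres

open Polynomial
open Multiplicative (ofAdd)

/-- First generator. -/
def gU : FreeGroup (Fin 3) := FreeGroup.of 0
/-- Second generator. -/
def gH : FreeGroup (Fin 3) := FreeGroup.of 1
/-- Third generator. -/
def gW : FreeGroup (Fin 3) := FreeGroup.of 2

section
variable {G : Type*} [Group G] (u h w : G)

theorem lift_gU : FreeGroup.lift ![u, h, w] gU = u := by simp [gU]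
theorem lift_gH : FreeGroup.lift ![u, h, w] gH = h := by simp [gH]
theorem lift_gW : FreeGroup.lift ![u, h, w] gW = w := by simp [gW]

end

variable {F : Type*} [Field F] {s : F}

/-- Conjugation rule for a pair `(X, h)`. -/
def IsConjHom {G : Type*} [Group G] (s : F) (X : Multiplicative F →* G) (h : G) : Prop :=
  ∀ c, h * X (ofAdd c) * h⁻¹ = X (ofAdd (s * c))

theorem IsConjHom.cj_eq {G : Type*} [Group G] {X : Multiplicative F →* G} {h : G}
    (hX : IsConjHom s X h) (d : ℕ) : cj h (X (ofAdd 1)) (d : ℤ) = X (ofAdd (s ^ d)) := by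
  induction d with
  | zero => simp [cj]
  | succ d ih =>
    rw [pow_succ', ← hX, ← ih, Nat.cast_succ, add_comm, ← cj_conj, zpow_one]

theorem IsConjHom.polyWord_eq {G : Type*} [Group G] {X : Multiplicative F →* G} {h : G}
    (hX : IsConjHom s X h) (a : ℕ) (P : ℤ[X]) :
    polyWord h (X (ofAdd 1)) (a : ℤ) P = X (ofAdd (aeval (s ^ a) P)) := by
  have key : ∀ N, ((List.range N).map fun i : ℕ =>
      cj h (X (ofAdd 1)) ((i : ℤ) * (a : ℤ)) ^ P.coeff i).prod
        = X (ofAdd (∑ i ∈ Finset.range N, P.coeff i • (s ^ a) ^ i)) := by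
    intro N
    induction N with
    | zero => simp
    | succ N ih =>
      rw [List.range_succ, List.map_append, List.prod_append, Finset.sum_range_succ, ofAdd_add,
        map_mul, ih, List.map_singleton, List.prod_singleton, ← Nat.cast_mul, hX.cj_eq,
        ← map_zpow, ← ofAdd_zsmul, ← pow_mul, mul_comm a N]
  rw [polyWord, key, aeval_eq_sum_range]

/-- A choice of integer polynomial in `s` for each element. -/
noncomputable def elemWord (hspan : ∀ c : F, ∃ P : ℤ[X], aeval s P = c) (c : F) :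
    FreeGroup (Fin 3) :=
  polyWord gH gU ((1 : ℕ) : ℤ) (hspan c).choose

theorem IsConjHom.elemWord_eq {G : Type*} [Group G] {X : Multiplicative F →* G} {h : G}
    (hX : IsConjHom s X h) (hspan : ∀ c : F, ∃ P : ℤ[X], aeval s P = c) (w : G) (c : F) :
    FreeGroup.lift ![X (ofAdd 1), h, w] (elemWord hspan c) = X (ofAdd c) := by
  rw [elemWord, map_polyWord, lift_gU, lift_gH, hX.polyWord_eq, pow_one, (hspan c).choose_spec]

theorem hom_pow_char {G : Type*} [Group G] {p : ℕ} [CharP F p] (X : Multiplicative F →* G) :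
    X (ofAdd 1) ^ p = 1 := by
  rw [← map_pow, ← ofAdd_nsmul, nsmul_one, CharP.cast_eq_zero, ofAdd_zero, map_one]

theorem hom_comm_rel {A G : Type*} [CommMonoid A] [Group G] (X : A →* G) (a b : A) :
    X a * X b * (X a)⁻¹ * (X b)⁻¹ = 1 := by
  rw [← map_mul, mul_comm a b, map_mul, mul_inv_cancel_right, mul_inv_cancel]

/-- Relations producing the unipotent subgroup. -/
structure UData (s : F) where
  rels : List (FreeGroup (Fin 3))
  length_le : rels.length ≤ 5
  sound : ∀ {G : Type*} [Group G] (X : Multiplicative F →* G) (h w : G), IsConjHom s X h →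
    ∀ r ∈ rels, FreeGroup.lift ![X (ofAdd 1), h, w] r = 1
  force : ∀ (G : Type) [Group G] (u h w : G),
    (∀ r ∈ rels, FreeGroup.lift ![u, h, w] r = 1) →
      ∃ X : Multiplicative F →* G, X (ofAdd 1) = u ∧ IsConjHom s X h

theorem poly_ker {p : ℕ} [Fact p.Prime] [Algebra (ZMod p) F] [Finite F] (A : F) :
    ∃ f : ℤ[X], aeval A f = 0 ∧
      ∀ P : ℤ[X], aeval A P = 0 → ∃ Q R : ℤ[X], P = f * Q + C (p : ℤ) * R := by
  have hsurj : Function.Surjective (Polynomial.map (Int.castRingHom (ZMod p))) :=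
    Polynomial.map_surjective _ ZMod.intCast_surjective
  obtain ⟨f, hf⟩ := hsurj (minpoly (ZMod p) A)
  have hmap : ∀ P : ℤ[X], aeval A (P.map (Int.castRingHom (ZMod p))) = aeval A P := by
    intro P
    rw [← algebraMap_int_eq, aeval_map_algebraMap]
  refine ⟨f, by rw [← hmap, hf, minpoly.aeval], fun P hP => ?_⟩
  obtain ⟨Q₀, hQ₀⟩ := minpoly.dvd (ZMod p) A (show aeval A (P.map (Int.castRingHom (ZMod p))) = 0 by
    rw [hmap, hP])
  obtain ⟨Q, rfl⟩ := hsurj Q₀
  have h0 : (P - f * Q).map (Int.castRingHom (ZMod p)) = 0 := by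
    rw [Polynomial.map_sub, Polynomial.map_mul, hf, hQ₀, sub_self]
  obtain ⟨R, hR⟩ : C (p : ℤ) ∣ P - f * Q := by
    rw [C_dvd_iff_dvd_coeff]
    intro i
    have := congrArg (fun q => q.coeff i) h0
    simp only [coeff_map, coeff_zero, eq_intCast] at this
    exact (ZMod.intCast_zmod_eq_zero_iff_dvd _ p).1 this
  exact ⟨Q, R, by rw [← hR]; ring⟩

theorem aeval_X_pow_one (A : F) (P : ℤ[X]) : aeval (A ^ 1) P = aeval A P := by rw [pow_one]

/-- Triangle relations. -/
theorem udata_triangle [Finite F] {p : ℕ} [Fact p.Prime] [CharP F p] (a b : ℕ)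
    (htri : s ^ a = s ^ b + 1) (hgen : ∀ c : F, ∃ P : ℤ[X], aeval (s ^ a) P = c) :
    Nonempty (UData s) := by
  letI : Algebra (ZMod p) F := ZMod.algebra F p
  obtain ⟨f, hf0, hfker⟩ := poly_ker (p := p) (s ^ a)
  obtain ⟨Ps, hPs⟩ := hgen s
  refine ⟨⟨[gU ^ p, gU * cj gH gU (a : ℤ) * gU⁻¹ * (cj gH gU (a : ℤ))⁻¹,
    cj gH gU (b : ℤ) * gU * (cj gH gU (a : ℤ))⁻¹, polyWord gH gU (a : ℤ) f,
    gH * gU * gH⁻¹ * (polyWord gH gU (a : ℤ) Ps)⁻¹], by simp, ?_, ?_⟩⟩
  · intro G _ X h w hX r hr
    simp only [List.mem_cons, List.not_mem_nil, or_false] at hr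
    rcases hr with rfl | rfl | rfl | rfl | rfl <;>
      simp only [map_mul, map_inv, map_pow, map_cj, map_polyWord, lift_gU, lift_gH, hX.cj_eq,
        hX.polyWord_eq, hf0, hPs]
    · exact hom_pow_char X
    · exact hom_comm_rel X _ _
    · rw [← map_mul, ← ofAdd_add, htri, mul_inv_cancel]
    · simp
    · rw [hX, mul_one, mul_inv_cancel]
  · intro G _ u h w hsat
    simp only [List.mem_cons, List.not_mem_nil, or_false, forall_eq_or_imp, forall_eq, map_mul,
      map_inv, map_pow, map_cj, map_polyWord, lift_gU, lift_gH] at hsat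
    obtain ⟨h1, h2, h3, h4, h5⟩ := hsat
    have hcomm : Commute u (cj h u (a : ℤ)) := by
      rw [mul_inv_eq_one, mul_inv_eq_iff_eq_mul] at h2
      exact h2
    have hall : ∀ i : ℤ, Commute u (cj h u (i * (a : ℤ))) := fun i => by
      simpa using commute_lattice (mul_inv_eq_one.1 h3).symm hcomm i 0
    exact exists_hom h u (a : ℤ) hall (s ^ a) s hgen f Ps h1 h4 hfker (mul_inv_eq_one.1 h5) hPs

/-- Relations for fields of degree at most two. -/
theorem udata_quadratic [Finite F] {p : ℕ} [Fact p.Prime] [CharP F p]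
    (hgen : ∀ c : F, ∃ P : ℤ[X], aeval s P = c) (α β : ℤ) (hβ : (β : F) ≠ 0)
    (hs : s ^ 2 = (α : F) * s + (β : F)) :
    Nonempty (UData s) := by
  letI : Algebra (ZMod p) F := ZMod.algebra F p
  obtain ⟨f, hf0, hfker⟩ := poly_ker (p := p) s
  refine ⟨⟨[gU ^ p, gU * cj gH gU (1 : ℤ) * gU⁻¹ * (cj gH gU (1 : ℤ))⁻¹,
    cj gH gU (2 : ℤ) * (cj gH gU (1 : ℤ) ^ α * gU ^ β)⁻¹, polyWord gH gU ((1 : ℕ) : ℤ) f],
    by simp, ?_, ?_⟩⟩
  · intro G _ X h w hX r hr
    have e1 : cj h (X (ofAdd (1 : F))) (1 : ℤ) = X (ofAdd s) := by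
      simpa using hX.cj_eq 1
    have e2 : cj h (X (ofAdd (1 : F))) (2 : ℤ) = X (ofAdd (s ^ 2)) := by
      simpa using hX.cj_eq 2
    simp only [List.mem_cons, List.not_mem_nil, or_false] at hr
    rcases hr with rfl | rfl | rfl | rfl <;>
      simp only [map_mul, map_inv, map_pow, map_zpow, map_cj, map_polyWord, lift_gU, lift_gH, e1,
        e2, hX.polyWord_eq, pow_one, hf0]
    · exact hom_pow_char X
    · exact hom_comm_rel X _ _
    · rw [← map_zpow X, ← map_zpow X, ← map_mul X, ← ofAdd_zsmul, ← ofAdd_zsmul, ← ofAdd_add,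
        zsmul_eq_mul, zsmul_eq_mul, mul_one, ← hs, mul_inv_cancel]
    · simp
  · intro G _ u h w hsat
    simp only [List.mem_cons, List.not_mem_nil, or_false, forall_eq_or_imp, forall_eq, map_mul,
      map_inv, map_pow, map_zpow, map_cj, map_polyWord, lift_gU, lift_gH] at hsat
    obtain ⟨h1, h2, h3, h4⟩ := hsat
    have h3' := mul_inv_eq_one.1 h3
    have hcomm : Commute u (cj h u 1) := by
      rw [mul_inv_eq_one, mul_inv_eq_iff_eq_mul] at h2
      exact h2
    obtain ⟨γ, k, hγ⟩ : ∃ γ k : ℤ, β * γ = 1 + (p : ℤ) * k := by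
      have hcop : IsCoprime β (p : ℤ) := by
        rw [isCoprime_comm, (Nat.prime_iff_prime_int.1 (Fact.out : p.Prime)).coprime_iff_not_dvd]
        intro hd
        exact hβ ((CharP.intCast_eq_zero_iff F p β).2 hd)
      obtain ⟨x, y, hxy⟩ := hcop
      exact ⟨x, -y, by linear_combination hxy⟩
    set S : Subgroup G := Subgroup.closure {u, cj h u 1} with hS
    have huS : u ∈ S := Subgroup.subset_closure (Set.mem_insert _ _)
    have hu1S : cj h u 1 ∈ S := Subgroup.subset_closure (Set.mem_insert_of_mem _ rfl)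
    have hu1p : ∀ d, cj h u d ^ (p : ℤ) = 1 := fun d => by
      rw [cj, conj_zpow, zpow_natCast, h1]; simp
    have step : ∀ d : ℤ, cj h u (d + 2) = cj h u (d + 1) ^ α * cj h u d ^ β := by
      intro d
      rw [← cj_conj, h3', ← conj_mul, ← conj_zpow, ← conj_zpow, cj_conj]
      rfl
    have hmem : ∀ d : ℤ, cj h u d ∈ S ∧ cj h u (d + 1) ∈ S := by
      intro d
      induction d using Int.induction_on with
      | zero => exact ⟨by rwa [cj_zero], by simpa using hu1S⟩
      | succ d ih =>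
        refine ⟨ih.2, ?_⟩
        rw [show (d : ℤ) + 1 + 1 = (d : ℤ) + 2 by ring, step]
        exact mul_mem (zpow_mem ih.2 _) (zpow_mem ih.1 _)
      | pred d ih =>
        refine ⟨?_, by simpa using ih.1⟩
        have e : cj h u (-(d : ℤ) - 1) ^ β ∈ S := by
          have := step (-(d : ℤ) - 1)
          rw [show -(d : ℤ) - 1 + 2 = -(d : ℤ) + 1 by ring,
            show -(d : ℤ) - 1 + 1 = -(d : ℤ) by ring] at this
          rw [show cj h u (-(d : ℤ) - 1) ^ β = (cj h u (-(d : ℤ)) ^ α)⁻¹ * cj h u (-(d : ℤ) + 1) by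
            rw [this, inv_mul_cancel_left]]
          exact mul_mem (inv_mem (zpow_mem ih.1 _)) ih.2
        have := zpow_mem e γ
        rwa [← zpow_mul, hγ, zpow_add, zpow_one, zpow_mul, hu1p, one_zpow, mul_one] at this
    have hall : ∀ i : ℤ, Commute u (cj h u (i * ((1 : ℕ) : ℤ))) := by
      intro i
      have : ∀ x ∈ S, Commute u x := fun x hx => by
        induction hx using Subgroup.closure_induction with
        | mem x hx =>
          rcases hx with rfl | rfl
          · exact Commute.refl _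
          · exact hcomm
        | one => exact Commute.one_right u
        | mul x y _ _ hx hy => exact hx.mul_right hy
        | inv x _ hx => exact hx.inv_right
      exact this _ (hmem _).1
    refine exists_hom h u ((1 : ℕ) : ℤ) hall s s hgen f Polynomial.X h1 h4 hfker ?_ (aeval_X s)
    simp [polyWord, List.range_succ, cj, coeff_X]

/-- Relations in characteristic two: `u` an involution, two further relations. -/
theorem udata_char_two [Finite F] [CharP F 2] (b r : ℕ) (htri : s = s ^ b + 1)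
    (hgen : ∀ c : F, ∃ P : ℤ[X], aeval s P = c) :
    ∃ f : ℤ[X], aeval s f = 0 ∧
      ∀ (G : Type) [Group G] (u h : G), u * u = 1 → cj h u (b : ℤ) * u = h * u * h⁻¹ →
        polyWord h u ((1 : ℕ) : ℤ) f * h ^ r = 1 →
          (∃ X : Multiplicative F →* G, X (ofAdd 1) = u ∧ IsConjHom s X h) ∧ h ^ r = 1 := by
  have : Fact (Nat.Prime 2) := ⟨Nat.prime_two⟩
  letI : Algebra (ZMod 2) F := ZMod.algebra F 2
  obtain ⟨f, hf0, hfker⟩ := poly_ker (p := 2) s
  refine ⟨f, hf0, fun G _ u h hu htriG hv => ?_⟩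
  have tri : cj h u 1 = cj h u (b : ℤ) * u := by rw [cj_one, htriG]
  have hinv : ∀ d, cj h u d * cj h u d = 1 := fun d => by
    rw [cj, conj_mul, hu]; simp
  have hcomm : Commute u (cj h u 1) := by
    have hub : Commute (cj h u (b : ℤ)) u := by
      have := hinv 1
      rw [tri] at this
      have h' : (cj h u (b : ℤ) * u)⁻¹ = cj h u (b : ℤ) * u := inv_eq_of_mul_eq_one_right this
      rw [mul_inv_rev, inv_eq_of_mul_eq_one_right hu, inv_eq_of_mul_eq_one_right (hinv _)] at h'
      exact h'.symm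
    rw [tri]
    exact hub.symm.mul_right (Commute.refl u)
  have hall : ∀ i : ℤ, Commute u (cj h u (i * ((1 : ℕ) : ℤ))) := fun i => by
    simpa using commute_lattice tri hcomm i 0
  set S := span' h u ((1 : ℕ) : ℤ)
  have hgenS : ∀ d : ℤ, cj h u d ∈ S := fun d =>
    Subgroup.subset_closure ⟨d, by simp⟩
  have hconjS : ∀ (c : ℤ) x, x ∈ S → h ^ c * x * (h ^ c)⁻¹ ∈ S := by
    intro c x hx
    induction hx using Subgroup.closure_induction with
    | mem x hx =>
      obtain ⟨i, rfl⟩ := hx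
      rw [cj_conj]
      exact hgenS _
    | one => simp
    | mul x y _ _ hx hy => rw [← conj_mul]; exact mul_mem hx hy
    | inv x _ hx => rw [← conj_inv]; exact inv_mem hx
  have hstep : ∀ x ∈ S, h ^ (1 : ℤ) * x * (h ^ (1 : ℤ))⁻¹
      = h ^ (b : ℤ) * x * (h ^ (b : ℤ))⁻¹ * x := by
    intro x hx
    induction hx using Subgroup.closure_induction with
    | mem x hx =>
      obtain ⟨i, rfl⟩ := hx
      simp only [cj_conj]
      rw [add_comm (1 : ℤ), add_comm (b : ℤ), ← cj_conj, ← cj_conj h u _ (b : ℤ), tri]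
      simp only [cj]
      group
    | one => simp
    | mul x y hx' hy' hx hy =>
      have hc : Commute x (h ^ (b : ℤ) * y * (h ^ (b : ℤ))⁻¹) :=
        span'_comm hall hx' (hconjS _ _ hy')
      rw [← conj_mul, hx, hy]
      exact (Commute.mul_mul_mul_comm hc _ _).trans (by rw [conj_mul])
    | inv x hx' hx =>
      rw [← conj_inv, hx, ← conj_inv, mul_inv_rev]
      exact ((span'_comm hall hx' (hconjS _ _ hx')).inv_inv).eq
  set v := polyWord h u ((1 : ℕ) : ℤ) f with hvdef
  have hvh : ∀ c : ℤ, h ^ c * v * (h ^ c)⁻¹ = v := by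
    intro c
    rw [eq_inv_of_mul_eq_one_left hv]
    group
  have hv1 : v = 1 := by
    have := hstep v (polyWord_mem _ _ _ _)
    rw [hvh, hvh] at this
    exact mul_eq_left.1 this.symm
  refine ⟨?_, by rwa [hv1, one_mul] at hv⟩
  refine exists_hom h u ((1 : ℕ) : ℤ) hall s s hgen f Polynomial.X (by rwa [pow_two]) hv1 hfker ?_
    (aeval_X s)
  simp [polyWord, List.range_succ, cj, coeff_X]

end CfsgLib.SL2Pres
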