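import Mathlib
import Cfsg.Agent.Lib.SL2Pres.Relations
import Cfsg.Agent.Lib.Generation.FieldClosure
import Cfsg.Agent.Lib.Classical.FiniteFieldSq

/-!
Choosing the unipotent relations over a finite field of odd characteristic.
-/

set_option autoImplicit false

namespace CfsgLib.SL2Pres

open Polynomial

variable {F : Type*} [Field F] [Fintype F]

theorem aeval_surjective_of_not_fixed {p n : ℕ} [Fact p.Prime] [CharP F p]
    (hF : Fintype.card F = p ^ n) (A : F) (hA : A ≠ 0)
    (hfix : ∀ d, 0 < d → d < n → d ∣ n → A ^ p ^ d ≠ A) :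
    ∀ c : F, ∃ P : ℤ[X], aeval A P = c := by
  let Y : AddSubgroup F := (aeval A : ℤ[X] →ₐ[ℤ] F).toRingHom.range.toAddSubgroup
  have hY : Y = ⊤ := by
    refine CfsgLib.Generation.addSubgroup_eq_top (Fact.out : p.Prime) hF A hA ?_ Y
      ⟨Polynomial.X, aeval_X A⟩ ?_
    · intro d hd0 hdn h
      have hper : ∀ k, Function.IsPeriodicPt (iterateFrobenius F p 1) k A ↔ A ^ p ^ k = A := by
        intro k
        rw [Function.IsPeriodicPt, Function.IsFixedPt, ← coe_iterateFrobenius_mul, one_mul,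
          iterateFrobenius_def]
      have h2 : Function.IsPeriodicPt (iterateFrobenius F p 1) n A := by
        rw [hper, ← hF, FiniteField.pow_card]
      have h3 := (hper _).1 (((hper d).2 h).gcd h2)
      exact hfix (Nat.gcd d n) (Nat.gcd_pos_of_pos_left _ hd0)
        (lt_of_le_of_lt (Nat.le_of_dvd hd0 (Nat.gcd_dvd_left d n)) hdn) (Nat.gcd_dvd_right d n) h3
    · rintro _ ⟨P, rfl⟩ _ ⟨Q, rfl⟩
      exact ⟨P * Q, map_mul _ _ _⟩
  intro c
  have : c ∈ Y := by rw [hY]; trivial
  obtain ⟨P, hP⟩ := this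
  exact ⟨P, hP⟩

theorem square_generates (h2 : (2 : F) ≠ 0) {t : Fˣ} (ht : ∀ x : Fˣ, ∃ k : ℕ, t ^ k = x) (c : F) :
    ∃ P : ℤ[X], aeval ((t : F) ^ 2) P = c := by
  have hsq : ∀ x : F, ∃ P : ℤ[X], aeval ((t : F) ^ 2) P = x ^ 2 := by
    intro x
    rcases eq_or_ne x 0 with rfl | hx
    · exact ⟨0, by simp⟩
    · obtain ⟨k, hk⟩ := ht (Units.mk0 x hx)
      refine ⟨Polynomial.X ^ k, ?_⟩
      have := congrArg Units.val hk
      simp at this
      rw [map_pow, aeval_X, ← this, ← pow_mul, ← pow_mul, mul_comm]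
  obtain ⟨x, y, rfl⟩ := CfsgLib.Classical.exists_sq_add_sq h2 c
  obtain ⟨P, hP⟩ := hsq x
  obtain ⟨Q, hQ⟩ := hsq y
  exact ⟨P + Q, by rw [map_add, hP, hQ]⟩

/-- A pair of consecutive nonzero squares generating the field. -/
theorem exists_square_pair {p n : ℕ} [Fact p.Prime] [CharP F p] (hF : Fintype.card F = p ^ n)
    (hp : 3 ≤ p) (hn : 3 ≤ n) :
    ∃ A : F, IsSquare A ∧ IsSquare (A - 1) ∧ A ≠ 0 ∧ A ≠ 1 ∧
      ∀ d, 0 < d → d < n → d ∣ n → A ^ p ^ d ≠ A := by
  classical
  have h2 : (2 : F) ≠ 0 := by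
    intro h
    have : p ∣ 2 := (CharP.cast_eq_zero_iff F p 2).1 (by exact_mod_cast h)
    exact absurd (Nat.le_of_dvd (by norm_num) this) (by omega)
  set Y := Finset.univ.filter (fun y : F => y ≠ 0 ∧ y ^ 4 ≠ 1) with hY
  have hYcard : Fintype.card F ≤ Y.card + 5 := by
    have hnot : (Finset.univ.filter fun y : F => ¬(y ≠ 0 ∧ y ^ 4 ≠ 1)).card ≤ 5 := by
      refine (Finset.card_le_card (t := insert 0 (nthRoots 4 (1 : F)).toFinset) ?_).trans ?_
      · intro y hy
        rw [Finset.mem_filter] at hy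
        rw [Finset.mem_insert, Multiset.mem_toFinset, mem_nthRoots (by norm_num)]
        tauto
      · refine (Finset.card_insert_le _ _).trans ?_
        have := (Multiset.toFinset_card_le _).trans (card_nthRoots 4 (1 : F))
        omega
    have := Finset.card_filter_add_card_filter_not (s := (Finset.univ : Finset F))
      (fun y : F => y ≠ 0 ∧ y ^ 4 ≠ 1)
    rw [Finset.card_univ, ← hY] at this
    omega
  set g : F → F := fun y => ((y + y⁻¹) / 2) ^ 2 with hg
  set S := Y.image g with hS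
  have hfib : Y.card ≤ 4 * S.card := by
    rw [Finset.card_eq_sum_card_image g Y, mul_comm]
    refine (Finset.sum_le_card_nsmul _ _ 4 fun A hA => ?_).trans le_rfl
    obtain ⟨y, hy, rfl⟩ := Finset.mem_image.1 hA
    refine (Finset.card_le_card (t := {y, -y, y⁻¹, -y⁻¹}) ?_).trans ?_
    · intro z hz
      rw [Finset.mem_filter] at hz
      have hy0 : y ≠ 0 := ((Finset.mem_filter.1 hy).2).1
      have hz0 : z ≠ 0 := ((Finset.mem_filter.1 hz.1).2).1
      have e : (z - y) * (z + y) * (z * y - 1) * (z * y + 1) = 0 := by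
        have := hz.2
        simp only [hg] at this
        field_simp at this
        linear_combination this
      simp only [Finset.mem_insert, Finset.mem_singleton]
      rcases mul_eq_zero.1 e with h | h
      · rcases mul_eq_zero.1 h with h | h
        · rcases mul_eq_zero.1 h with h | h
          · exact Or.inl (sub_eq_zero.1 h)
          · exact Or.inr (Or.inl (add_eq_zero_iff_eq_neg.1 h))
        · exact Or.inr (Or.inr (Or.inl (eq_inv_of_mul_eq_one_left (sub_eq_zero.1 h))))
      · refine Or.inr (Or.inr (Or.inr ?_))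
        rw [← neg_eq_iff_eq_neg]
        exact eq_inv_of_mul_eq_one_left (by linear_combination -h)
    · refine (Finset.card_insert_le _ _).trans (Nat.succ_le_succ ?_)
      refine (Finset.card_insert_le _ _).trans (Nat.succ_le_succ ?_)
      exact Finset.card_le_two
  set D := Finset.Icc 1 (n / 2) with hD
  set Bad := D.biUnion (fun d => Finset.univ.filter fun A : F => A ^ p ^ d = A) with hBad
  have hp1 : ∀ d, 1 ≤ d → 1 < p ^ d := fun d hd => Nat.one_lt_pow (by omega) (by omega)
  have hBadcard : Bad.card ≤ ∑ d ∈ D, p ^ d := by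
    refine Finset.card_biUnion_le.trans (Finset.sum_le_sum fun d hd => ?_)
    have hd1 := hp1 d (Finset.mem_Icc.1 hd).1
    refine (Finset.card_le_card (t := (X ^ p ^ d - X : F[X]).roots.toFinset) ?_).trans ?_
    · intro A hA
      rw [Finset.mem_filter] at hA
      rw [Multiset.mem_toFinset, mem_roots (FiniteField.X_pow_card_sub_X_ne_zero F hd1)]
      simp [hA.2]
    · refine (Multiset.toFinset_card_le _).trans ((card_roots' _).trans ?_)
      rw [FiniteField.X_pow_card_sub_X_natDegree_eq F hd1]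
  have hsum : ∀ k, 2 * (∑ d ∈ Finset.Icc 1 k, p ^ d) + 3 ≤ 3 * p ^ k := by
    intro k
    induction k with
    | zero => simp
    | succ k ih =>
      rw [Finset.sum_Icc_succ_top (by omega)]
      have h1 : 3 * p ^ k ≤ p ^ (k + 1) := by
        rw [pow_succ']; exact Nat.mul_le_mul_right _ hp
      omega
  obtain ⟨A, hAS, hAB⟩ : ∃ A, A ∈ S ∧ A ∉ Bad := by
    by_contra h
    push Not at h
    have h1 : S.card ≤ Bad.card := Finset.card_le_card h
    have h3 := hsum (n / 2)
    rw [← hD] at h3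
    have h9 : 9 * p ^ (n / 2) ≤ p ^ n := by
      calc 9 * p ^ (n / 2) ≤ p ^ 2 * p ^ (n / 2) := Nat.mul_le_mul_right _ (by nlinarith)
        _ = p ^ (2 + n / 2) := (pow_add _ _ _).symm
        _ ≤ p ^ n := Nat.pow_le_pow_right (by omega) (by omega)
    have := hp1 (n / 2) (by omega)
    omega
  obtain ⟨y, hy, rfl⟩ := Finset.mem_image.1 hAS
  obtain ⟨hy0, hy4⟩ := (Finset.mem_filter.1 hy).2
  refine ⟨g y, ⟨(y + y⁻¹) / 2, pow_two _⟩, ⟨(y - y⁻¹) / 2, ?_⟩, ?_, ?_, ?_⟩
  · simp only [hg]; field_simp; ring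
  · intro h
    simp only [hg] at h
    field_simp at h
    have h' : y ^ 2 + 1 = 0 :=
      eq_zero_of_pow_eq_zero (n := 2) (by linear_combination h)
    exact hy4 (by linear_combination (y ^ 2 - 1) * h')
  · intro h
    simp only [hg] at h
    field_simp at h
    have h' : y ^ 2 - 1 = 0 :=
      eq_zero_of_pow_eq_zero (n := 2) (by linear_combination h)
    exact hy4 (by linear_combination (y ^ 2 + 1) * h')
  · intro d hd0 hdn hdvd hfix
    apply hAB
    rw [hBad, Finset.mem_biUnion]
    obtain ⟨k, rfl⟩ := hdvd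
    refine ⟨d, Finset.mem_Icc.2 ⟨hd0, ?_⟩, by simp [hfix]⟩
    have hk : 2 ≤ k := by
      rcases k with _ | _ | k
      · omega
      · omega
      · omega
    rw [Nat.le_div_iff_mul_le (by norm_num)]
    exact Nat.mul_le_mul_left d hk

theorem exists_quadratic {p n : ℕ} [Fact p.Prime] [CharP F p] (hF : Fintype.card F = p ^ n)
    (hn : n ≤ 2) (s : F) (hs : s ≠ 0) :
    ∃ α β : ℤ, (β : F) ≠ 0 ∧ s ^ 2 = (α : F) * s + (β : F) := by
  letI : Algebra (ZMod p) F := ZMod.algebra F p
  have hcast : ∀ z : ZMod p, ∃ i : ℤ, (i : F) = algebraMap (ZMod p) F z := by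
    intro z
    obtain ⟨i, rfl⟩ := ZMod.intCast_surjective z
    exact ⟨i, (map_intCast _ _).symm⟩
  by_cases hmem : s ∈ (algebraMap (ZMod p) F).range
  · obtain ⟨z, rfl⟩ := hmem
    obtain ⟨i, hi⟩ := hcast z
    refine ⟨i + 1, -i, by push_cast; rw [hi]; exact neg_ne_zero.2 hs, ?_⟩
    push_cast
    rw [hi]
    ring
  · set M := minpoly (ZMod p) s with hM
    have hint : IsIntegral (ZMod p) s := IsIntegral.of_finite _ _
    have hfin : Module.finrank (ZMod p) F = n := by
      have h := Module.card_eq_pow_finrank (K := ZMod p) (V := F)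
      rw [hF, ZMod.card] at h
      exact (Nat.pow_right_injective (Fact.out : p.Prime).two_le h).symm
    have hdeg : M.natDegree = 2 := by
      have h1 : M.natDegree ≤ 2 := (minpoly.natDegree_le s).trans (hfin.le.trans hn)
      have h2 : M.natDegree ≠ 1 := fun h => hmem (minpoly.natDegree_eq_one_iff.1 h)
      have h3 := minpoly.natDegree_pos hint
      rw [← hM] at h3
      omega
    obtain ⟨α, hα⟩ := hcast (-M.coeff 1)
    obtain ⟨β, hβ⟩ := hcast (-M.coeff 0)
    refine ⟨α, β, ?_, ?_⟩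
    · rw [hβ, map_neg, neg_ne_zero, Ne, map_eq_zero]
      exact minpoly.coeff_zero_ne_zero hint hs
    · have h := minpoly.aeval (ZMod p) s
      rw [← hM, aeval_eq_sum_range, hdeg] at h
      have hmon : M.coeff 2 = 1 := by
        have := (minpoly.monic hint).coeff_natDegree
        rwa [← hM, hdeg] at this
      simp only [Finset.sum_range_succ, Finset.sum_range_zero, zero_add, hmon, Algebra.smul_def,
        pow_zero, pow_one, mul_one, map_one, one_mul] at h
      rw [hα, hβ, map_neg, map_neg]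
      linear_combination h

/-- The unipotent relations exist. -/
theorem exists_udata {p n : ℕ} [Fact p.Prime] [CharP F p] (hF : Fintype.card F = p ^ n)
    (hp : 3 ≤ p) {t : Fˣ} (ht : ∀ x : Fˣ, ∃ k : ℕ, t ^ k = x) :
    Nonempty (UData ((t : F) ^ 2)) := by
  have h2 : (2 : F) ≠ 0 := by
    intro h
    have : p ∣ 2 := (CharP.cast_eq_zero_iff F p 2).1 (by exact_mod_cast h)
    exact absurd (Nat.le_of_dvd (by norm_num) this) (by omega)
  have hspan := square_generates h2 ht
  rcases Nat.lt_or_ge n 3 with hn | hn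
  · obtain ⟨α, β, hβ, hs⟩ := exists_quadratic hF (by omega) ((t : F) ^ 2) (pow_ne_zero _ t.ne_zero)
    exact udata_quadratic (p := p) hspan α β hβ hs
  · obtain ⟨A, ⟨x, hx⟩, ⟨y, hy⟩, hA0, hA1, hfix⟩ := exists_square_pair hF hp hn
    have hx0 : x ≠ 0 := by rintro rfl; simp at hx; exact hA0 hx
    have hy0 : y ≠ 0 := by rintro rfl; simp at hy; exact hA1 (sub_eq_zero.1 hy)
    obtain ⟨a, ha⟩ := ht (Units.mk0 x hx0)
    obtain ⟨b, hb⟩ := ht (Units.mk0 y hy0)
    have ha' : ((t : F) ^ 2) ^ a = A := by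
      rw [← pow_mul, mul_comm, pow_mul, ← Units.val_pow_eq_pow_val t a, ha, Units.val_mk0, hx,
        pow_two]
    have hb' : ((t : F) ^ 2) ^ b = A - 1 := by
      rw [← pow_mul, mul_comm, pow_mul, ← Units.val_pow_eq_pow_val t b, hb, Units.val_mk0, hy,
        pow_two]
    refine udata_triangle (p := p) a b (by rw [ha', hb', sub_add_cancel]) ?_
    rw [ha']
    exact aeval_surjective_of_not_fixed hF A hA0 hfix

end CfsgLib.SL2Pres
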