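import Mathlib
import Cfsg.Agent.Lib.SL2Pres.Relations

/-!
SL₂ and PSL₂ as models of the rules; finding the unipotent relations in a finite field.
-/

set_option autoImplicit false

namespace CfsgLib.SL2Pres

open Matrix
open Multiplicative (ofAdd toAdd)
open scoped MatrixGroups

variable {F : Type*} [Field F]

/-- Upper unitriangular elements. -/
def xHom (F : Type*) [Field F] : Multiplicative F →* Matrix.SpecialLinearGroup (Fin 2) F where
  toFun c := ⟨!![1, c.toAdd; 0, 1], by simp [det_fin_two]⟩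
  map_one' := by
    refine Matrix.SpecialLinearGroup.ext _ _ fun i j => ?_
    fin_cases i <;> fin_cases j <;> simp
  map_mul' a b := by
    refine Matrix.SpecialLinearGroup.ext _ _ fun i j => ?_
    show _ = ((!![1, a.toAdd; 0, 1] : Matrix (Fin 2) (Fin 2) F) * !![1, b.toAdd; 0, 1]) i j
    fin_cases i <;> fin_cases j <;> simp [Matrix.mul_apply, Fin.sum_univ_two, add_comm]

theorem xHom_val (c : F) : ((xHom F (ofAdd c) : Matrix.SpecialLinearGroup (Fin 2) F) : Matrix (Fin 2) (Fin 2) F) = !![1, c; 0, 1] := rfl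

/-- Diagonal elements. -/
def hDiag : Fˣ →* Matrix.SpecialLinearGroup (Fin 2) F where
  toFun t := ⟨!![(t : F), 0; 0, ((t⁻¹ : Fˣ) : F)], by simp [det_fin_two]⟩
  map_one' := by
    refine Matrix.SpecialLinearGroup.ext _ _ fun i j => ?_
    fin_cases i <;> fin_cases j <;> simp
  map_mul' a b := by
    refine Matrix.SpecialLinearGroup.ext _ _ fun i j => ?_
    show _ = ((!![(a : F), 0; 0, ((a⁻¹ : Fˣ) : F)] : Matrix (Fin 2) (Fin 2) F)
      * !![(b : F), 0; 0, ((b⁻¹ : Fˣ) : F)]) i j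
    fin_cases i <;> fin_cases j <;> simp [Matrix.mul_apply, Fin.sum_univ_two, mul_comm]

theorem hDiag_val (t : Fˣ) : ((hDiag t : Matrix.SpecialLinearGroup (Fin 2) F) : Matrix (Fin 2) (Fin 2) F) = !![(t : F), 0; 0, ((t⁻¹ : Fˣ) : F)] := rfl

/-- The Weyl element. -/
def wEl (F : Type*) [Field F] : Matrix.SpecialLinearGroup (Fin 2) F :=
  ⟨!![0, 1; -1, 0], by simp [det_fin_two]⟩

theorem wEl_val : ((wEl F : Matrix.SpecialLinearGroup (Fin 2) F) : Matrix (Fin 2) (Fin 2) F) = !![0, 1; -1, 0] := rfl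

theorem sl2_conj (t : Fˣ) (c : F) :
    hDiag t * xHom F (ofAdd c) * (hDiag t)⁻¹ = xHom F (ofAdd ((t : F) ^ 2 * c)) := by
  rw [← map_inv]
  refine Matrix.SpecialLinearGroup.ext _ _ fun i j => ?_
  simp only [Matrix.SpecialLinearGroup.coe_mul, hDiag_val, xHom_val]
  fin_cases i <;> fin_cases j <;> simp [Matrix.mul_apply, Fin.sum_univ_two] <;> field_simp

theorem sl2_whw (t : Fˣ) : wEl F * hDiag t * (wEl F)⁻¹ = (hDiag t)⁻¹ := by
  rw [mul_inv_eq_iff_eq_mul, ← map_inv]
  refine Matrix.SpecialLinearGroup.ext _ _ fun i j => ?_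
  simp only [Matrix.SpecialLinearGroup.coe_mul, hDiag_val, wEl_val]
  fin_cases i <;> fin_cases j <;> simp [Matrix.mul_apply, Fin.sum_univ_two]

theorem sl2_w_sq_apply : ((wEl F * wEl F : Matrix.SpecialLinearGroup (Fin 2) F) : Matrix (Fin 2) (Fin 2) F) = !![-1, 0; 0, -1] := by
  simp only [Matrix.SpecialLinearGroup.coe_mul, wEl_val]
  ext i j
  fin_cases i <;> fin_cases j <;> simp [Matrix.mul_apply, Fin.sum_univ_two]

theorem sl2_ww (t : Fˣ) (e : ℕ) (h : (t : F) ^ e = -1) : wEl F * wEl F = hDiag t ^ e := by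
  rw [← map_pow]
  refine Matrix.SpecialLinearGroup.ext _ _ fun i j => ?_
  rw [sl2_w_sq_apply, hDiag_val]
  fin_cases i <;> fin_cases j <;> simp [h]

theorem sl2_uw_cube : (xHom F (ofAdd 1) * wEl F) ^ 3 = 1 := by
  refine Matrix.SpecialLinearGroup.ext _ _ fun i j => ?_
  simp only [pow_succ, pow_zero, one_mul, Matrix.SpecialLinearGroup.coe_mul, xHom_val, wEl_val,
    Matrix.SpecialLinearGroup.coe_one]
  fin_cases i <;> fin_cases j <;> simp [Matrix.mul_apply, Fin.sum_univ_two]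

theorem sl2_braid (h2 : (2 : F) = 0) : xHom F (ofAdd 1) * wEl F * xHom F (ofAdd 1)
    = wEl F * xHom F (ofAdd 1) * wEl F := by
  refine Matrix.SpecialLinearGroup.ext _ _ fun i j => ?_
  simp only [Matrix.SpecialLinearGroup.coe_mul, xHom_val, wEl_val]
  fin_cases i <;> fin_cases j <;> simp [Matrix.mul_apply, Fin.sum_univ_two] <;> grind

theorem sl2_trel (t : Fˣ) : wEl F * xHom F (ofAdd (t : F)) * (wEl F)⁻¹
    = xHom F (ofAdd (-(t : F)⁻¹)) * (hDiag t)⁻¹ * wEl F * xHom F (ofAdd (-(t : F)⁻¹)) := by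
  rw [mul_inv_eq_iff_eq_mul, ← map_inv]
  refine Matrix.SpecialLinearGroup.ext _ _ fun i j => ?_
  simp only [Matrix.SpecialLinearGroup.coe_mul, hDiag_val, xHom_val, wEl_val]
  fin_cases i <;> fin_cases j <;> simp [Matrix.mul_apply, Fin.sum_univ_two]

theorem sl2_small_val (t : Fˣ) (a : F) (k : ℕ) : ((xHom F (ofAdd a) * hDiag t ^ k : Matrix.SpecialLinearGroup (Fin 2) F) : Matrix (Fin 2) (Fin 2) F)
    = !![((t ^ k : Fˣ) : F), a * (((t ^ k)⁻¹ : Fˣ) : F); 0, (((t ^ k)⁻¹ : Fˣ) : F)] := by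
  rw [← map_pow, Matrix.SpecialLinearGroup.coe_mul, hDiag_val, xHom_val]
  ext i j
  fin_cases i <;> fin_cases j <;> simp [Matrix.mul_apply, Fin.sum_univ_two]

theorem sl2_big_apply (t : Fˣ) (a b : F) (k : ℕ) :
    ((xHom F (ofAdd a) * hDiag t ^ k * wEl F * xHom F (ofAdd b) :
      Matrix.SpecialLinearGroup (Fin 2) F) : Matrix (Fin 2) (Fin 2) F) 1 0
      = -(((t ^ k)⁻¹ : Fˣ) : F) := by
  rw [Matrix.SpecialLinearGroup.coe_mul, Matrix.SpecialLinearGroup.coe_mul, sl2_small_val, xHom_val, wEl_val]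
  simp [Matrix.mul_apply, Fin.sum_univ_two]

theorem hom_mem_of_span {G : Type*} [Group G] {s : F} (X : Multiplicative F →* G) (h : G)
    (hX : IsConjHom s X h) (hspan : ∀ c : F, ∃ P : Polynomial ℤ, Polynomial.aeval s P = c)
    (C : Subgroup G) (h1 : X (ofAdd 1) ∈ C) (hh : h ∈ C) (c : F) : X (ofAdd c) ∈ C := by
  obtain ⟨P, hP⟩ := hspan c
  have := hX.polyWord_eq 1 P
  rw [pow_one, hP] at this
  rw [← this]
  refine Subgroup.list_prod_mem _ fun x hx => ?_
  obtain ⟨i, -, rfl⟩ := List.mem_map.1 hx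
  exact zpow_mem (mul_mem (mul_mem (zpow_mem hh _) h1) (inv_mem (zpow_mem hh _))) _

theorem sl2_gen {t : Fˣ} (ht : ∀ x : Fˣ, ∃ k : ℕ, t ^ k = x)
    (hspan : ∀ c : F, ∃ P : Polynomial ℤ, Polynomial.aeval ((t : F) ^ 2) P = c) :
    Subgroup.closure ({xHom F (ofAdd 1), hDiag t, wEl F} : Set (Matrix.SpecialLinearGroup (Fin 2) F))
      = ⊤ := by
  set C := Subgroup.closure ({xHom F (ofAdd 1), hDiag t, wEl F} : Set (Matrix.SpecialLinearGroup (Fin 2) F))
  have hX : ∀ c, xHom F (ofAdd c) ∈ C := hom_mem_of_span (xHom F) (hDiag t) (sl2_conj t) hspan C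
    (Subgroup.subset_closure (by simp)) (Subgroup.subset_closure (by simp))
  have hh : ∀ x : Fˣ, hDiag x ∈ C := fun x => by
    obtain ⟨k, rfl⟩ := ht x
    rw [map_pow]
    exact pow_mem (Subgroup.subset_closure (by simp)) _
  rw [eq_top_iff]
  intro g _
  have hdet : (g : Matrix (Fin 2) (Fin 2) F) 0 0 * (g : Matrix (Fin 2) (Fin 2) F) 1 1 - (g : Matrix (Fin 2) (Fin 2) F) 0 1 * (g : Matrix (Fin 2) (Fin 2) F) 1 0 = 1 := by rw [← det_fin_two]; exact g.2
  by_cases hc : (g : Matrix (Fin 2) (Fin 2) F) 1 0 = 0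
  · have ha : (g : Matrix (Fin 2) (Fin 2) F) 0 0 * (g : Matrix (Fin 2) (Fin 2) F) 1 1 = 1 := by simpa [hc] using hdet
    have : g = xHom F (ofAdd ((g : Matrix (Fin 2) (Fin 2) F) 0 1 * (g : Matrix (Fin 2) (Fin 2) F) 0 0)) * hDiag (Units.mkOfMulEqOne _ _ ha) := by
      refine Matrix.SpecialLinearGroup.ext _ _ fun i j => ?_
      rw [Matrix.SpecialLinearGroup.coe_mul, hDiag_val, xHom_val]
      fin_cases i <;> fin_cases j <;> simp [Matrix.mul_apply, Fin.sum_univ_two, hc]
      · rw [mul_assoc, mul_inv_cancel₀ (left_ne_zero_of_mul_eq_one ha), mul_one]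
      · exact eq_inv_of_mul_eq_one_right ha
    rw [this]
    exact mul_mem (hX _) (hh _)
  · have : g = xHom F (ofAdd ((g : Matrix (Fin 2) (Fin 2) F) 0 0 / (g : Matrix (Fin 2) (Fin 2) F) 1 0))
        * hDiag (Units.mk0 (-((g : Matrix (Fin 2) (Fin 2) F) 1 0)⁻¹) (neg_ne_zero.2 (inv_ne_zero hc)))
        * wEl F * xHom F (ofAdd ((g : Matrix (Fin 2) (Fin 2) F) 1 1 / (g : Matrix (Fin 2) (Fin 2) F) 1 0)) := by
      refine Matrix.SpecialLinearGroup.ext _ _ fun i j => ?_
      simp only [Matrix.SpecialLinearGroup.coe_mul, hDiag_val, xHom_val, wEl_val]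
      fin_cases i <;> fin_cases j <;> simp [Matrix.mul_apply, Fin.sum_univ_two] <;> field_simp <;>
        linear_combination (-1 : F) * hdet
    rw [this]
    exact mul_mem (mul_mem (mul_mem (hX _) (hh _)) (Subgroup.subset_closure (by simp))) (hX _)

/-- The SL₂ model. -/
noncomputable def slModel [Finite F] (t : Fˣ) (ht : ∀ x : Fˣ, ∃ k : ℕ, t ^ k = x)
    (hspan : ∀ c : F, ∃ P : Polynomial ℤ, Polynomial.aeval ((t : F) ^ 2) P = c)
    (e : ℕ) (he : (t : F) ^ e = -1) :
    Model (Matrix.SpecialLinearGroup (Fin 2) F) ((t : F) ^ 2) (orderOf t) e where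
  X := xHom F
  h := hDiag t
  w := wEl F
  conj := sl2_conj t
  pow_N := by rw [← map_pow, pow_orderOf_eq_one, map_one]
  whw := sl2_whw t
  ww := sl2_ww t e he
  ker_small := fun a k hk h => by
    have h' : ((xHom F (ofAdd a) * hDiag t ^ k : Matrix.SpecialLinearGroup (Fin 2) F) : Matrix (Fin 2) (Fin 2) F) = 1 := by
      rw [h, Matrix.SpecialLinearGroup.coe_one]
    rw [sl2_small_val] at h'
    have h00 := congrFun (congrFun h' 0) 0
    have h01 := congrFun (congrFun h' 0) 1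
    simp at h00 h01
    refine ⟨h01, ?_⟩
    by_contra hk0
    exact pow_ne_one_of_lt_orderOf hk0 hk (Units.ext (by simpa using h00))
  ker_big := fun a k b h => by
    have := congrArg (fun g : Matrix.SpecialLinearGroup (Fin 2) F => (g : Matrix (Fin 2) (Fin 2) F) 1 0) h
    simp only [sl2_big_apply, Matrix.SpecialLinearGroup.coe_one] at this
    simp at this
  gen := sl2_gen ht hspan

theorem sl2_center_entries (g : Matrix.SpecialLinearGroup (Fin 2) F)
    (hg : g ∈ Subgroup.center (Matrix.SpecialLinearGroup (Fin 2) F)) :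
    (g : Matrix (Fin 2) (Fin 2) F) 1 0 = 0 ∧ (g : Matrix (Fin 2) (Fin 2) F) 0 1 = 0 ∧ (g : Matrix (Fin 2) (Fin 2) F) 0 0 = (g : Matrix (Fin 2) (Fin 2) F) 1 1 := by
  obtain ⟨r, -, hr⟩ := Matrix.SpecialLinearGroup.mem_center_iff.1 hg
  rw [← hr]
  simp [Matrix.scalar]

theorem neg_one_mem_center : wEl F * wEl F ∈ Subgroup.center (Matrix.SpecialLinearGroup (Fin 2) F) := by
  rw [Subgroup.mem_center_iff]
  intro g
  refine Matrix.SpecialLinearGroup.ext _ _ fun i j => ?_
  rw [Matrix.SpecialLinearGroup.coe_mul g, Matrix.SpecialLinearGroup.coe_mul (wEl F * wEl F) g,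
    sl2_w_sq_apply]
  fin_cases i <;> fin_cases j <;> simp [Matrix.mul_apply, Fin.sum_univ_two]

/-- The projection to PSL₂. -/
noncomputable def pmk (F : Type*) [Field F] :
    Matrix.SpecialLinearGroup (Fin 2) F →* Matrix.ProjectiveSpecialLinearGroup (Fin 2) F :=
  QuotientGroup.mk' _

/-- The PSL₂ model. -/
noncomputable def pslModel [Finite F] (t : Fˣ) (ht : ∀ x : Fˣ, ∃ k : ℕ, t ^ k = x)
    (hspan : ∀ c : F, ∃ P : Polynomial ℤ, Polynomial.aeval ((t : F) ^ 2) P = c) :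
    Model (Matrix.ProjectiveSpecialLinearGroup (Fin 2) F) ((t : F) ^ 2) (orderOf (t ^ 2)) 0 where
  X := (pmk F).comp (xHom F)
  h := pmk F (hDiag t)
  w := pmk F (wEl F)
  conj := fun c => by
    simp only [MonoidHom.comp_apply]
    rw [← map_mul, ← map_inv, ← map_mul, sl2_conj]
  pow_N := by
    rw [← map_pow, ← map_pow]
    set k := orderOf (t ^ 2)
    have h1 : (t ^ k) ^ 2 = 1 := by rw [← pow_mul, mul_comm, pow_mul, pow_orderOf_eq_one]
    have : hDiag (t ^ k) ∈ Subgroup.center (Matrix.SpecialLinearGroup (Fin 2) F) := by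
      rw [Subgroup.mem_center_iff]
      intro g
      refine Matrix.SpecialLinearGroup.ext _ _ fun i j => ?_
      rw [Matrix.SpecialLinearGroup.coe_mul, Matrix.SpecialLinearGroup.coe_mul, hDiag_val]
      have h2 : (t ^ k)⁻¹ = t ^ k := inv_eq_of_mul_eq_one_right (by rw [← pow_two, h1])
      rw [h2]
      fin_cases i <;> fin_cases j <;> simp [Matrix.mul_apply, Fin.sum_univ_two, mul_comm]
    exact (QuotientGroup.eq_one_iff _).2 this
  whw := by rw [← map_inv, ← map_inv, ← map_mul, ← map_mul, sl2_whw]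
  ww := by
    rw [pow_zero, ← map_mul]
    exact (QuotientGroup.eq_one_iff _).2 neg_one_mem_center
  ker_small := fun a k hk h => by
    rw [MonoidHom.comp_apply, ← map_pow, ← map_mul] at h
    obtain ⟨-, h01, h00⟩ := sl2_center_entries _ ((QuotientGroup.eq_one_iff _).1 h)
    rw [sl2_small_val] at h01 h00
    simp at h01 h00
    refine ⟨h01, ?_⟩
    by_contra hk0
    refine pow_ne_one_of_lt_orderOf hk0 hk (Units.ext ?_)
    have ht0 := pow_ne_zero k t.ne_zero
    rw [← pow_mul, mul_comm, pow_mul, Units.val_pow_eq_pow_val, Units.val_pow_eq_pow_val,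
      Units.val_one, pow_two]
    nth_rewrite 2 [h00]
    exact mul_inv_cancel₀ ht0
  ker_big := fun a k b h => by
    rw [MonoidHom.comp_apply, MonoidHom.comp_apply, ← map_pow, ← map_mul, ← map_mul, ← map_mul] at h
    obtain ⟨h10, -, -⟩ := sl2_center_entries _ ((QuotientGroup.eq_one_iff _).1 h)
    rw [sl2_big_apply] at h10
    simp at h10
  gen := by
    rw [eq_top_iff]
    intro g _
    obtain ⟨x, rfl⟩ := QuotientGroup.mk'_surjective _ g
    have hx : x ∈ Subgroup.closure ({xHom F (ofAdd 1), hDiag t, wEl F} :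
        Set (Matrix.SpecialLinearGroup (Fin 2) F)) := by rw [sl2_gen ht hspan]; trivial
    have := Subgroup.mem_map_of_mem (pmk F) hx
    rw [MonoidHom.map_closure, Set.image_insert_eq, Set.image_insert_eq, Set.image_singleton] at this
    exact this

end CfsgLib.SL2Pres
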