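import Mathlib
import Cfsg.Agent.Lib.SL2Pres.Models
import Cfsg.Agent.Lib.SL2Pres.Existence

/-!
Nine (five in characteristic two) relations on three generators present SL₂ and PSL₂.
-/

set_option autoImplicit false

namespace CfsgLib.SL2Pres

open Polynomial
open Multiplicative (ofAdd)
open scoped MatrixGroups

variable {F : Type*} [Field F]

/-- The goal: `T` has a presentation with three generators and at most `k` relations. -/
def HasPres (T : Type*) [Group T] (k : ℕ) : Prop :=
  ∃ rels : Finset (FreeGroup (Fin 3)), rels.card ≤ k ∧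
    Nonempty (PresentedGroup (↑rels : Set (FreeGroup (Fin 3))) ≃* T)

theorem HasPres.mono {T : Type*} [Group T] {k l : ℕ} (h : HasPres T k) (hkl : k ≤ l) :
    HasPres T l :=
  ⟨h.choose, h.choose_spec.1.trans hkl, h.choose_spec.2⟩

theorem hasPres_of_list {T : Type*} [Group T] {s : F} {N e k : ℕ} (M : Model T s N e) (hN : 0 < N)
    (hs : s ≠ 0) (hspan : ∀ c : F, ∃ P : ℤ[X], aeval s P = c) (L : List (FreeGroup (Fin 3)))
    (hlen : L.length ≤ k)
    (htrue : ∀ r ∈ L, FreeGroup.lift ![M.X (ofAdd 1), M.h, M.w] r = 1)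
    (hforce : ∀ (G : Type) [Group G] (u h w : G),
      (∀ r ∈ L, FreeGroup.lift ![u, h, w] r = 1) →
        ∃ D : Rules G s N e, D.X (ofAdd 1) = u ∧ D.h = h ∧ D.w = w ∧ ∀ c, c ≠ 0 → D.Cov c) :
    HasPres T k := by
  classical
  refine ⟨L.toFinset, (List.toFinset_card_le L).trans hlen, ?_⟩
  exact nonempty_equiv M hN hs hspan L.toFinset (fun r hr => htrue r (List.mem_toFinset.1 hr))
    fun G _ u h w hR => hforce G u h w fun r hr => hR r (List.mem_toFinset.2 hr)

theorem cov_all {G : Type*} [Group G] {N e : ℕ} [Finite F] {t : Fˣ}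
    (D : Rules G ((t : F) ^ 2) N e) (hN : 0 < N) (ht : ∀ x : Fˣ, ∃ k : ℕ, t ^ k = x)
    (h1 : D.Cov 1) (j : ℕ) (hodd : D.Cov ((t : F) ^ (2 * j + 1))) (c : F) (hc : c ≠ 0) :
    D.Cov c := by
  have hs : (t : F) ^ 2 ≠ 0 := pow_ne_zero _ t.ne_zero
  obtain ⟨k, hk⟩ := ht (Units.mk0 c hc)
  have hk' : c = (t : F) ^ k := by rw [← Units.val_pow_eq_pow_val, hk, Units.val_mk0]
  rcases Nat.even_or_odd' k with ⟨i, rfl | rfl⟩
  · have := D.cov_mul hN hs h1 i
    rwa [mul_one, ← pow_mul, ← hk'] at this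
  · obtain ⟨L, hL, hL1⟩ : ∃ L : ℕ, 0 < L ∧ (t : F) ^ L = 1 :=
      ⟨orderOf t, (orderOf_pos t), by
        rw [← Units.val_pow_eq_pow_val, pow_orderOf_eq_one, Units.val_one]⟩
    obtain ⟨L, rfl⟩ := Nat.exists_eq_add_one_of_ne_zero hL.ne'
    have := D.cov_mul hN hs hodd (i + j * L)
    rwa [← pow_mul, ← pow_add,
      show 2 * (i + j * L) + (2 * j + 1) = (L + 1) * (2 * j) + (2 * i + 1) by ring, pow_add,
      pow_mul, hL1, one_pow, one_mul, ← hk'] at this

/-- Relation giving the covering of a nonsquare. -/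
noncomputable def tRel {s : F} (hspan : ∀ c : F, ∃ P : ℤ[X], aeval s P = c) (t : Fˣ) :
    FreeGroup (Fin 3) :=
  gW * elemWord hspan (t : F) * gW⁻¹
    * (elemWord hspan (-(t : F)⁻¹) * gH⁻¹ * gW * elemWord hspan (-(t : F)⁻¹))⁻¹

theorem cov_of_tRel {G : Type*} [Group G] {N e : ℕ} {t : Fˣ} {s : F} (D : Rules G s N e)
    (hN : 0 < N) (hspan : ∀ c : F, ∃ P : ℤ[X], aeval s P = c)
    (h : FreeGroup.lift ![D.X (ofAdd 1), D.h, D.w] (tRel hspan t) = 1) : D.Cov (t : F) := by
  have hX : IsConjHom s D.X D.h := D.conj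
  simp only [tRel, map_mul, map_inv, hX.elemWord_eq hspan D.w, lift_gW, lift_gH] at h
  rw [Rules.Cov, mul_inv_eq_one.1 h, show D.h⁻¹ = D.h ^ (1 * (N - 1)) by
    rw [← D.inv_pow_eq hN, pow_one]]
  refine D.big_mul_X ?_ _
  rw [mul_assoc]
  exact D.big_X_mul (D.big_pow_mul D.big_w _) _

theorem tRel_true {G : Type*} [Group G] {t : Fˣ} {s : F} (X : Multiplicative F →* G) (h w : G)
    (hX : IsConjHom s X h) (hspan : ∀ c : F, ∃ P : ℤ[X], aeval s P = c)
    (hrel : w * X (ofAdd (t : F)) * w⁻¹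
      = X (ofAdd (-(t : F)⁻¹)) * h⁻¹ * w * X (ofAdd (-(t : F)⁻¹))) :
    FreeGroup.lift ![X (ofAdd 1), h, w] (tRel hspan t) = 1 := by
  simp only [tRel, map_mul, map_inv, hX.elemWord_eq hspan w, lift_gW, lift_gH]
  rw [hrel, mul_inv_cancel]

/-- The relation forcing `h ^ r = 1`. -/
theorem pow_half_eq_one {G : Type*} [Group G] {s : F} (X : Multiplicative F →* G) (h w : G)
    (hX : IsConjHom s X h) (hwhw : w * h * w⁻¹ = h⁻¹) (hww : w * w = 1)
    (h3 : (X (ofAdd 1) * w) ^ 3 = 1) (k : ℕ) (hk : s ^ k = -1) : h ^ (2 * k) = 1 := by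
  have hw : w⁻¹ = w := inv_eq_of_mul_eq_one_right hww
  set A := (X (ofAdd 1))⁻¹ with hA
  have hA3 : (A * w) ^ 3 = 1 := by
    have e : A * w = w * (X (ofAdd 1) * w)⁻¹ * w⁻¹ := by
      rw [mul_inv_rev, hw, ← mul_assoc w w, hww, one_mul]
    rw [e, conj_pow, inv_pow, h3, inv_one, mul_one, mul_inv_cancel]
  have hconj : ∀ (n : ℕ) (c : F),
      h ^ n * X (ofAdd c) * (h ^ n)⁻¹ = X (ofAdd (s ^ n * c)) := by
    intro n c
    induction n generalizing c with
    | zero => simp
    | succ n ih =>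
      rw [pow_succ, mul_inv_rev, show h ^ n * h * X (ofAdd c) * (h⁻¹ * (h ^ n)⁻¹)
        = h ^ n * (h * X (ofAdd c) * h⁻¹) * (h ^ n)⁻¹ by group, hX, ih, pow_succ, mul_assoc]
  have hwp : ∀ n : ℕ, w * h ^ n * w⁻¹ = (h ^ n)⁻¹ := fun n => by
    rw [← conj_pow, hwhw, inv_pow]
  set z := h ^ (2 * k) with hz
  have key : (A * (z * w)) ^ 3 = 1 := by
    have e : A * (z * w) = h ^ k * (X (ofAdd 1) * w) * (h ^ k)⁻¹ := by
      have e1 : h ^ k * X (ofAdd 1) * (h ^ k)⁻¹ = A := by
        rw [hconj, hk, mul_one, ofAdd_neg, map_inv]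
      have e2 : h ^ k * w * (h ^ k)⁻¹ = z * w := by
        rw [← hwp, hz, two_mul, pow_add]
        simp only [mul_assoc, hw, hww, mul_one]
        rw [← mul_assoc w w, hww, one_mul]
      rw [← e1, ← e2]
      group
    rw [e, conj_pow, h3, mul_one, mul_inv_cancel]
  have zA : Commute z A := by
    have : z * X (ofAdd 1) * z⁻¹ = X (ofAdd 1) := by
      rw [hz, hconj, mul_comm 2 k, pow_mul, hk]
      norm_num
    exact (Commute.inv_right (mul_inv_eq_iff_eq_mul.1 this))
  have wz : ∀ x, w * (z * x) = z⁻¹ * (w * x) := fun x => by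
    rw [← mul_assoc, ← mul_assoc, ← hwp, inv_mul_cancel_right]
  have wz' : ∀ x, w * (z⁻¹ * x) = z * (w * x) := fun x => by
    have := wz (z⁻¹ * x)
    rw [mul_inv_cancel_left] at this
    rw [this, mul_inv_cancel_left]
  have Az : ∀ x, A * (z * x) = z * (A * x) := fun x => by
    rw [← mul_assoc, ← zA.eq, mul_assoc]
  have Az' : ∀ x, A * (z⁻¹ * x) = z⁻¹ * (A * x) := fun x => by
    rw [← mul_assoc, ← zA.inv_left.eq, mul_assoc]
  simp only [pow_succ, pow_zero, one_mul, mul_assoc, wz, wz', Az, Az', mul_inv_cancel_left,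
    inv_mul_cancel_left] at key hA3
  rwa [hA3, mul_one] at key

variable [Fintype F]

theorem exists_gen (F : Type*) [Field F] [Fintype F] :
    ∃ t : Fˣ, (∀ x : Fˣ, ∃ k : ℕ, t ^ k = x) ∧ orderOf t = Fintype.card F - 1 := by
  classical
  obtain ⟨t, ht⟩ := IsCyclic.exists_generator (α := Fˣ)
  refine ⟨t, fun x => ?_, ?_⟩
  · obtain ⟨k, hk⟩ := mem_powers_iff_mem_zpowers.2 (ht x)
    exact ⟨k, hk⟩
  · rw [orderOf_eq_card_of_forall_mem_zpowers ht, Nat.card_eq_fintype_card, Fintype.card_units]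

theorem five_relations [CharP F 2] {T : Type*} [Group T] {t : Fˣ}
    (ht : ∀ x : Fˣ, ∃ k : ℕ, t ^ k = x) {r : ℕ} (hr : r = Fintype.card F - 1)
    (hspan : ∀ c : F, ∃ P : ℤ[X], aeval ((t : F) ^ 2) P = c)
    (M : Model T ((t : F) ^ 2) r 0)
    (hbraid : M.X (ofAdd 1) * M.w * M.X (ofAdd 1) = M.w * M.X (ofAdd 1) * M.w) :
    HasPres T 5 := by
  classical
  have h2 : (2 : F) = 0 := CharTwo.two_eq_zero
  have : Fact (Nat.Prime 2) := ⟨Nat.prime_two⟩
  have hs : (t : F) ^ 2 ≠ 0 := pow_ne_zero _ t.ne_zero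
  have hMww : M.w * M.w = 1 := M.ww.trans (pow_zero _)
  -- common consequences of the first three relations
  have common : ∀ (G : Type) [Group G] (u h w : G),
      w * w = 1 → u * w * u = w * u * w → u * u = 1 ∧ (u * w) ^ 3 = 1 := by
    intro G _ u h w hww hbr
    have hw : w⁻¹ = w := inv_eq_of_mul_eq_one_right hww
    have hu : u = (w * u) * w * (w * u)⁻¹ := by
      rw [← hbr]; group
    have huu : u * u = 1 := by
      calc u * u = ((w * u) * w * (w * u)⁻¹) * ((w * u) * w * (w * u)⁻¹) := by rw [← hu]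
        _ = (w * u) * (w * w) * (w * u)⁻¹ := by group
        _ = 1 := by rw [hww]; group
    refine ⟨huu, ?_⟩
    calc (u * w) ^ 3 = u * w * u * (w * u * w) := by simp only [pow_succ, pow_zero, one_mul, mul_assoc]
      _ = u * w * u * (u * w * u) := by rw [hbr]
      _ = u * w * (u * u) * w * u := by group
      _ = u * (w * w) * u := by rw [huu]; group
      _ = 1 := by rw [hww, mul_one, huu]
  have hinvol : ∀ {G : Type} [Group G] {h w : G}, w * w = 1 → w * h * w⁻¹ * h = 1 →
      w * h * w⁻¹ = h⁻¹ := fun _ hh => eq_inv_of_mul_eq_one_left hh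
  have hr0 : 0 < r := by have := Fintype.one_lt_card (α := F); omega
  by_cases hq : Fintype.card F = 2
  · -- the field with two elements
    have hr1 : r = 1 := by omega
    subst hr1
    have hh1 : M.h = 1 := by simpa using M.pow_N
    have hall : ∀ c : F, c = 0 ∨ c = 1 := by
      intro c
      by_contra hc
      push Not at hc
      have h3 := Finset.card_le_univ ({0, 1, c} : Finset F)
      rw [Finset.card_insert_of_notMem (by simp [hc.1.symm]),
        Finset.card_insert_of_notMem (by simp [hc.2.symm]), Finset.card_singleton, hq] at h3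
      omega
    have hts : (t : F) ^ 2 = 1 := (hall _).resolve_left hs
    refine hasPres_of_list M hr0 hs hspan
      [gW * gW, gU * gW * gU * (gW * gU * gW)⁻¹, gW * gH * gW⁻¹ * gH, gH] (by simp) ?_ ?_
    · intro x hx
      simp only [List.mem_cons, List.not_mem_nil, or_false] at hx
      rcases hx with rfl | rfl | rfl | rfl <;> simp only [map_mul, map_inv, lift_gU, lift_gH, lift_gW]
      · exact hMww
      · rw [hbraid, mul_inv_cancel]
      · rw [hh1]; simp
      · exact hh1
    · intro G _ u h w hsat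
      simp only [List.mem_cons, List.not_mem_nil, or_false, forall_eq_or_imp, forall_eq, map_mul,
        map_inv, lift_gU, lift_gH, lift_gW] at hsat
      obtain ⟨hww, hbr, hwh, hh⟩ := hsat
      obtain ⟨huu, hu3⟩ := common G u h w hww (mul_inv_eq_one.1 hbr)
      obtain ⟨f, hf0, hfker⟩ : ∃ f : ℤ[X], aeval (1 : F) f = 0 ∧
          ∀ P : ℤ[X], aeval (1 : F) P = 0 → ∃ Q R : ℤ[X], P = f * Q + C ((2 : ℕ) : ℤ) * R := by
        refine ⟨Polynomial.X - 1, by simp, fun P hP => ?_⟩
        obtain ⟨Q, hQ⟩ := X_sub_C_dvd_sub_C_eval (a := (1 : ℤ)) (p := P)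
        obtain ⟨R, hR⟩ : (2 : ℤ) ∣ P.eval 1 := by
          have : ((P.eval 1 : ℤ) : F) = 0 := by
            rw [← hP, ← map_one (algebraMap ℤ F), aeval_algebraMap_apply]
            simp
          exact_mod_cast (CharP.intCast_eq_zero_iff F 2 _).1 this
        refine ⟨Q, C R, ?_⟩
        rw [← map_mul, show ((2 : ℕ) : ℤ) * R = P.eval 1 from hR.symm]
        have hQ' : P - C (P.eval 1) = (Polynomial.X - 1) * Q := by rw [hQ, map_one]
        linear_combination hQ'
      have hgen1 : ∀ c : F, ∃ P : ℤ[X], aeval (1 : F) P = c := fun c => by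
        rcases hall c with rfl | rfl
        · exact ⟨0, map_zero _⟩
        · exact ⟨1, map_one _⟩
      obtain ⟨X', hX1, hXh⟩ := exists_hom h u 0 (fun i => by simp [cj]) (1 : F) ((t : F) ^ 2)
        hgen1 f 1 (p := 2) (by rw [pow_two]; exact huu) (by
          have e : polyWord h u 0 f = u ^ f.eval 1 := by
            have key : ∀ N, ((List.range N).map fun i : ℕ =>
                cj h u ((i : ℤ) * 0) ^ f.coeff i).prod = u ^ ∑ i ∈ Finset.range N, f.coeff i := by
              intro N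
              induction N with
              | zero => simp
              | succ N ih =>
                rw [List.range_succ, List.map_append, List.prod_append, Finset.sum_range_succ,
                  zpow_add, ih]
                simp [cj]
            rw [polyWord, key, eval_eq_sum_range]
            simp
          obtain ⟨R, hR⟩ : (2 : ℤ) ∣ f.eval 1 := by
            have : ((f.eval 1 : ℤ) : F) = 0 := by
              rw [← hf0, ← map_one (algebraMap ℤ F), aeval_algebraMap_apply]
              simp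
            exact_mod_cast (CharP.intCast_eq_zero_iff F 2 _).1 this
          rw [e, hR, zpow_mul, zpow_two, huu, one_zpow]) hfker
        (by simp [hh, polyWord, cj]) (by simp [hts])
      refine ⟨{ X := X', h := h, w := w, conj := hXh, pow_N := by simp [hh],
                whw := hinvol hww hwh, ww := by rw [hww, pow_zero] }, hX1, rfl, rfl, fun c hc => ?_⟩
      rw [(hall c).resolve_left hc]
      exact Rules.cov_one _ hr0 hs (show (X' (ofAdd 1) * w) ^ 3 = 1 by rw [hX1]; exact hu3)
  · -- larger fields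
    have htr : (t : F) ^ r = 1 := hr ▸ FiniteField.pow_card_sub_one_eq_one _ t.ne_zero
    have hs1 : ((t : F) ^ 2) + 1 ≠ 0 := by
      intro h0
      have ht1 : (t : F) = 1 :=
        CharTwo.sq_injective ((CharTwo.add_eq_zero.1 h0).trans (one_pow 2).symm)
      apply hq
      have hall : ∀ c : F, c = 0 ∨ c = 1 := fun c => by
        rcases eq_or_ne c 0 with rfl | hc
        · exact Or.inl rfl
        · obtain ⟨k, hk⟩ := ht (Units.mk0 c hc)
          refine Or.inr ?_
          rw [← Units.val_mk0 hc, ← hk, Units.val_pow_eq_pow_val, ht1, one_pow]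
      refine le_antisymm ?_ Fintype.one_lt_card
      calc Fintype.card F ≤ ({0, 1} : Finset F).card :=
            Finset.card_le_card fun c _ => by simpa using hall c
        _ ≤ 2 := Finset.card_le_two
    have hsquare : ∀ c : F, c ≠ 0 → ∃ k, c = ((t : F) ^ 2) ^ k := by
      intro c hc
      obtain ⟨y, hy⟩ := FiniteField.isSquare_of_char_two (ringChar.eq F 2) c
      have hy0 : y ≠ 0 := by rintro rfl; simp at hy; exact hc hy
      obtain ⟨k, hk⟩ := ht (Units.mk0 y hy0)
      refine ⟨k, ?_⟩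
      rw [hy, ← pow_mul, mul_comm 2 k, pow_mul, ← Units.val_pow_eq_pow_val t, hk,
        Units.val_mk0, pow_two]
    obtain ⟨b, hb⟩ := hsquare (((t : F) ^ 2) + 1) hs1
    obtain ⟨f, hf0, hforce⟩ := udata_char_two b r
      (show ((t : F) ^ 2) = ((t : F) ^ 2) ^ b + 1 by rw [← hb, add_assoc, CharTwo.add_self_eq_zero, add_zero]) hspan
    refine hasPres_of_list M hr0 hs hspan
      [gW * gW, gU * gW * gU * (gW * gU * gW)⁻¹, gW * gH * gW⁻¹ * gH,
        cj gH gU (b : ℤ) * gU * (gH * gU * gH⁻¹)⁻¹,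
        polyWord gH gU ((1 : ℕ) : ℤ) f * gH ^ r] (by simp) ?_ ?_
    · intro x hx
      have hX : IsConjHom ((t : F) ^ 2) M.X M.h := M.conj
      simp only [List.mem_cons, List.not_mem_nil, or_false] at hx
      rcases hx with rfl | rfl | rfl | rfl | rfl <;>
        simp only [map_mul, map_inv, map_pow, map_cj, map_polyWord, lift_gU, lift_gH, lift_gW,
          hX.cj_eq, hX.polyWord_eq, pow_one, hf0]
      · exact hMww
      · rw [hbraid, mul_inv_cancel]
      · rw [M.whw, inv_mul_cancel]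
      · rw [hX, mul_one, M.X_add, ← hb, add_assoc, CharTwo.add_self_eq_zero, add_zero,
          mul_inv_cancel]
      · rw [M.pow_N]; simp
    · intro G _ u h w hsat
      simp only [List.mem_cons, List.not_mem_nil, or_false, forall_eq_or_imp, forall_eq, map_mul,
        map_inv, map_pow, map_cj, map_polyWord, lift_gU, lift_gH, lift_gW] at hsat
      obtain ⟨hww, hbr, hwh, htri, hv⟩ := hsat
      obtain ⟨huu, hu3⟩ := common G u h w hww (mul_inv_eq_one.1 hbr)
      obtain ⟨⟨X', hX1, hXh⟩, hhr⟩ := hforce G u h huu (mul_inv_eq_one.1 htri) hv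
      let D : Rules G ((t : F) ^ 2) r 0 :=
        { X := X', h := h, w := w, conj := hXh, pow_N := hhr, whw := hinvol hww hwh,
          ww := by rw [hww, pow_zero] }
      refine ⟨D, hX1, rfl, rfl, fun c hc => ?_⟩
      obtain ⟨k, rfl⟩ := hsquare c hc
      simpa using D.cov_mul hr0 hs
        (D.cov_one hr0 hs (show (X' (ofAdd 1) * w) ^ 3 = 1 by rw [hX1]; exact hu3)) k

/-- SL₂ in odd characteristic. -/
theorem nine_sl {p n : ℕ} [Fact p.Prime] [CharP F p] (hF : Fintype.card F = p ^ n) (hp : 3 ≤ p)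
    {t : Fˣ} (ht : ∀ x : Fˣ, ∃ k : ℕ, t ^ k = x) {r : ℕ} (hord : orderOf t = 2 * r) (hr0 : 0 < r)
    (hneg : (t : F) ^ r = -1) (hspan : ∀ c : F, ∃ P : ℤ[X], aeval ((t : F) ^ 2) P = c) :
    HasPres (Matrix.SpecialLinearGroup (Fin 2) F) 9 := by
  obtain ⟨U⟩ := exists_udata hF hp ht
  have hs : (t : F) ^ 2 ≠ 0 := pow_ne_zero _ t.ne_zero
  have hN : 0 < orderOf t := orderOf_pos t
  set M := slModel t ht hspan r hneg
  refine hasPres_of_list M hN hs hspan
    (U.rels ++ [gW * gH * gW⁻¹ * gH, gW * gW * (gH ^ r)⁻¹, (gU * gW) ^ 3, tRel hspan t])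
    (by have := U.length_le; simp only [List.length_append, List.length_cons, List.length_nil]; omega)
    ?_ ?_
  · rw [List.forall_mem_append]
    refine ⟨U.sound M.X M.h M.w M.conj, fun x hx => ?_⟩
    simp only [List.mem_cons, List.not_mem_nil, or_false] at hx
    rcases hx with rfl | rfl | rfl | rfl
    · simp only [map_mul, map_inv, lift_gH, lift_gW, M.whw, inv_mul_cancel]
    · simp only [map_mul, map_inv, map_pow, lift_gH, lift_gW, M.ww, mul_inv_cancel]
    · simp only [map_mul, map_pow, lift_gU, lift_gW]; exact sl2_uw_cube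
    · exact tRel_true M.X M.h M.w M.conj hspan (sl2_trel t)
  · intro G _ u h w hsat
    rw [List.forall_mem_append] at hsat
    obtain ⟨hU, hW⟩ := hsat
    obtain ⟨X', hX1, hXh⟩ := U.force G u h w hU
    simp only [List.mem_cons, List.not_mem_nil, or_false, forall_eq_or_imp, forall_eq, map_mul,
      map_inv, map_pow, lift_gU, lift_gH, lift_gW] at hW
    obtain ⟨hwh, hww, hu3, htr⟩ := hW
    have hwhw := eq_inv_of_mul_eq_one_left hwh
    have hww' := mul_inv_eq_one.1 hww
    let D : Rules G ((t : F) ^ 2) (orderOf t) r :=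
      { X := X', h := h, w := w, conj := hXh
        pow_N := by
          have e : w * h ^ r * w⁻¹ = (h ^ r)⁻¹ := by rw [← conj_pow, hwhw, inv_pow]
          rw [← hww', show w * (w * w) * w⁻¹ = w * w by group] at e
          rw [hord, two_mul, pow_add, ← hww']
          exact eq_inv_iff_mul_eq_one.1 e
        whw := hwhw, ww := hww' }
    refine ⟨D, hX1, rfl, rfl, cov_all D hN ht
      (D.cov_one hN hs (show (X' (ofAdd 1) * w) ^ 3 = 1 by rw [hX1]; exact hu3)) 0 ?_⟩
    have : D.Cov (t : F) := cov_of_tRel D hN hspan (by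
      show FreeGroup.lift ![X' (ofAdd 1), h, w] (tRel hspan t) = 1
      rw [hX1]; exact htr)
    simpa using this

/-- PSL₂ in odd characteristic. -/
theorem nine_psl {p n : ℕ} [Fact p.Prime] [CharP F p] (hF : Fintype.card F = p ^ n) (hp : 3 ≤ p)
    {t : Fˣ} (ht : ∀ x : Fˣ, ∃ k : ℕ, t ^ k = x) {r : ℕ} (hord : orderOf (t ^ 2) = r) (hr0 : 0 < r)
    (hneg : (t : F) ^ r = -1) (hspan : ∀ c : F, ∃ P : ℤ[X], aeval ((t : F) ^ 2) P = c) :
    HasPres (Matrix.ProjectiveSpecialLinearGroup (Fin 2) F) 9 := by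
  obtain ⟨U⟩ := exists_udata hF hp ht
  have hs : (t : F) ^ 2 ≠ 0 := pow_ne_zero _ t.ne_zero
  subst hord
  set r := orderOf (t ^ 2)
  set M := pslModel t ht hspan
  have hMww : M.w * M.w = 1 := M.ww.trans (pow_zero _)
  have hMU : M.X (ofAdd 1) = pmk F (xHom F (ofAdd 1)) := rfl
  have hMw : M.w = pmk F (wEl F) := rfl
  have hM3 : (M.X (ofAdd 1) * M.w) ^ 3 = 1 := by
    rw [hMU, hMw, ← map_mul, ← map_pow, sl2_uw_cube, map_one]
  have mkCov : ∀ (G : Type) [Group G] (u h w : G),
      (∀ x ∈ U.rels, FreeGroup.lift ![u, h, w] x = 1) → w * h * w⁻¹ * h = 1 → w * w = 1 →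
      (u * w) ^ 3 = 1 →
      ∃ X' : Multiplicative F →* G, X' (ofAdd 1) = u ∧ IsConjHom ((t : F) ^ 2) X' h ∧
        ∀ hr : h ^ r = 1, ∃ D : Rules G ((t : F) ^ 2) r 0,
          D.X = X' ∧ D.h = h ∧ D.w = w ∧ D.Cov 1 := by
    intro G _ u h w hU hwh hww hu3
    obtain ⟨X', hX1, hXh⟩ := U.force G u h w hU
    refine ⟨X', hX1, hXh, fun hr => ?_⟩
    let D : Rules G ((t : F) ^ 2) r 0 :=
      { X := X', h := h, w := w, conj := hXh, pow_N := hr, whw := eq_inv_of_mul_eq_one_left hwh
        ww := by rw [hww, pow_zero] }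
    exact ⟨D, rfl, rfl, rfl,
      D.cov_one hr0 hs (show (X' (ofAdd 1) * w) ^ 3 = 1 by rw [hX1]; exact hu3)⟩
  rcases Nat.even_or_odd' r with ⟨k, hk | hk⟩
  · refine hasPres_of_list M hr0 hs hspan
      (U.rels ++ [gW * gH * gW⁻¹ * gH, gW * gW, (gU * gW) ^ 3, tRel hspan t])
      (by have := U.length_le; simp only [List.length_append, List.length_cons, List.length_nil]; omega)
      ?_ ?_
    · rw [List.forall_mem_append]
      refine ⟨U.sound M.X M.h M.w M.conj, fun x hx => ?_⟩
      simp only [List.mem_cons, List.not_mem_nil, or_false] at hx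
      rcases hx with rfl | rfl | rfl | rfl
      · simp only [map_mul, map_inv, lift_gH, lift_gW, M.whw, inv_mul_cancel]
      · simp only [map_mul, lift_gW, hMww]
      · simp only [map_mul, map_pow, lift_gU, lift_gW, hM3]
      · refine tRel_true M.X M.h M.w M.conj hspan ?_
        show pmk F (wEl F) * pmk F (xHom F (ofAdd (t : F))) * (pmk F (wEl F))⁻¹
          = pmk F (xHom F (ofAdd (-(t : F)⁻¹))) * (pmk F (hDiag t))⁻¹ * pmk F (wEl F)
            * pmk F (xHom F (ofAdd (-(t : F)⁻¹)))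
        simp only [← map_inv, ← map_mul, sl2_trel]
    · intro G _ u h w hsat
      rw [List.forall_mem_append] at hsat
      obtain ⟨hU, hW⟩ := hsat
      simp only [List.mem_cons, List.not_mem_nil, or_false, forall_eq_or_imp, forall_eq, map_mul,
        map_inv, map_pow, lift_gU, lift_gH, lift_gW] at hW
      obtain ⟨hwh, hww, hu3, htr⟩ := hW
      obtain ⟨X', hX1, hXh, hD⟩ := mkCov G u h w hU hwh hww hu3
      have hhr : h ^ r = 1 := by
        rw [hk]
        refine pow_half_eq_one X' h w hXh (eq_inv_of_mul_eq_one_left hwh) hww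
          (by rw [hX1]; exact hu3) k ?_
        rw [← pow_mul, ← hk, hneg]
      obtain ⟨D, hDX, hDh, hDw, hD1⟩ := hD hhr
      refine ⟨D, by rw [hDX, hX1], hDh, hDw, cov_all D hr0 ht hD1 0 ?_⟩
      have : D.Cov (t : F) := cov_of_tRel D hr0 hspan (by rw [hDX, hDh, hDw, hX1]; exact htr)
      simpa using this
  · refine hasPres_of_list M hr0 hs hspan
      (U.rels ++ [gW * gH * gW⁻¹ * gH, gW * gW, (gU * gW) ^ 3, gH ^ r])
      (by have := U.length_le; simp only [List.length_append, List.length_cons, List.length_nil]; omega)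
      ?_ ?_
    · rw [List.forall_mem_append]
      refine ⟨U.sound M.X M.h M.w M.conj, fun x hx => ?_⟩
      simp only [List.mem_cons, List.not_mem_nil, or_false] at hx
      rcases hx with rfl | rfl | rfl | rfl
      · simp only [map_mul, map_inv, lift_gH, lift_gW, M.whw, inv_mul_cancel]
      · simp only [map_mul, lift_gW, hMww]
      · simp only [map_mul, map_pow, lift_gU, lift_gW, hM3]
      · simp only [map_pow, lift_gH]; exact M.pow_N
    · intro G _ u h w hsat
      rw [List.forall_mem_append] at hsat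
      obtain ⟨hU, hW⟩ := hsat
      simp only [List.mem_cons, List.not_mem_nil, or_false, forall_eq_or_imp, forall_eq, map_mul,
        map_inv, map_pow, lift_gU, lift_gH, lift_gW] at hW
      obtain ⟨hwh, hww, hu3, hhr⟩ := hW
      obtain ⟨X', hX1, hXh, hD⟩ := mkCov G u h w hU hwh hww hu3
      obtain ⟨D, hDX, hDh, hDw, hD1⟩ := hD hhr
      refine ⟨D, by rw [hDX, hX1], hDh, hDw, cov_all D hr0 ht hD1 k ?_⟩
      rw [← hk, hneg]
      exact D.cov_neg_one hr0 hs (by rw [hDX, hDw, hX1]; exact hu3)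

/-- The full statement. -/
theorem presentations (F : Type*) [Field F] [Fintype F] :
    HasPres (Matrix.SpecialLinearGroup (Fin 2) F) 9 ∧
      HasPres (Matrix.ProjectiveSpecialLinearGroup (Fin 2) F) 9 ∧
      (CharP F 2 → HasPres (Matrix.ProjectiveSpecialLinearGroup (Fin 2) F) 5) := by
  classical
  obtain ⟨p, hchar⟩ := CharP.exists F
  obtain ⟨n, hp, hn⟩ := FiniteField.card F p
  have : Fact p.Prime := ⟨hp⟩
  obtain ⟨t, ht, hord⟩ := exists_gen F
  have hq := Fintype.one_lt_card (α := F)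
  set q := Fintype.card F with hqdef
  rcases hp.eq_two_or_odd with rfl | hodd
  · have hspan : ∀ c : F, ∃ P : ℤ[X], aeval ((t : F) ^ 2) P = c := by
      intro c
      obtain ⟨y, rfl⟩ := FiniteField.isSquare_of_char_two (ringChar.eq F 2) c
      rcases eq_or_ne y 0 with rfl | hy0
      · exact ⟨0, by simp⟩
      · obtain ⟨k, hk⟩ := ht (Units.mk0 y hy0)
        refine ⟨Polynomial.X ^ k, ?_⟩
        rw [map_pow, aeval_X, ← pow_mul, mul_comm 2 k, pow_mul, ← Units.val_pow_eq_pow_val t, hk,
          Units.val_mk0, pow_two]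
    have he : (t : F) ^ 0 = -1 := by rw [pow_zero, CharTwo.neg_eq]
    have ho1 : orderOf t = q - 1 := hord
    have hqodd : (q - 1).Coprime 2 := by
      have hev : 2 ∣ q := by rw [hn]; exact dvd_pow_self 2 n.ne_zero
      rw [Nat.coprime_two_right, Nat.odd_iff]
      omega
    have ho2 : orderOf (t ^ 2) = q - 1 := by
      rw [Nat.Coprime.orderOf_pow (by rwa [hord])]; exact hord
    have hsl : HasPres (Matrix.SpecialLinearGroup (Fin 2) F) 5 := by
      refine five_relations ht (r := orderOf t) ho1 hspan (slModel t ht hspan 0 he) ?_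
      exact sl2_braid CharTwo.two_eq_zero
    have hpsl : HasPres (Matrix.ProjectiveSpecialLinearGroup (Fin 2) F) 5 := by
      refine five_relations ht (r := orderOf (t ^ 2)) ho2 hspan (pslModel t ht hspan) ?_
      show pmk F (xHom F (ofAdd 1)) * pmk F (wEl F) * pmk F (xHom F (ofAdd 1))
        = pmk F (wEl F) * pmk F (xHom F (ofAdd 1)) * pmk F (wEl F)
      simp only [← map_mul, sl2_braid CharTwo.two_eq_zero]
    exact ⟨hsl.mono (by norm_num), hpsl.mono (by norm_num), fun _ => hpsl⟩
  · have hp3 : 3 ≤ p := by have := hp.two_le; omega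
    have h2 : (2 : F) ≠ 0 := by
      intro h
      have : p ∣ 2 := (CharP.cast_eq_zero_iff F p 2).1 (by exact_mod_cast h)
      exact absurd (Nat.le_of_dvd (by norm_num) this) (by omega)
    have hspan := square_generates h2 ht
    have hqodd : q % 2 = 1 := by rw [hn]; exact (Nat.pow_mod _ _ _).trans (by simp [hodd])
    set r := q / 2 with hrdef
    have hr0 : 0 < r := by omega
    have ho1 : orderOf t = 2 * r := by rw [hord]; omega
    have hneg : (t : F) ^ r = -1 := by
      have h1 : ((t : F) ^ r) ^ 2 = 1 := by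
        rw [← pow_mul, mul_comm, ← ho1, ← Units.val_pow_eq_pow_val, pow_orderOf_eq_one,
          Units.val_one]
      rcases sq_eq_one_iff.1 h1 with h | h
      · exact absurd (Units.ext (by simpa using h) : t ^ r = 1)
          (pow_ne_one_of_lt_orderOf hr0.ne' (by omega))
      · exact h
    have ho2 : orderOf (t ^ 2) = r := by
      rw [orderOf_pow' t (by norm_num : (2 : ℕ) ≠ 0), ho1, Nat.gcd_mul_right_left, Nat.mul_div_cancel_left r (by norm_num)]
    refine ⟨nine_sl hn hp3 ht ho1 hr0 hneg hspan, nine_psl hn hp3 ht ho2 hr0 hneg hspan,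
      fun h => ?_⟩
    exact absurd (CharP.eq F hchar h) (by omega)

end CfsgLib.SL2Pres
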