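import Mathlib
import Cfsg.Agent.Lib.SL2Pres.Main

/-!
The rank one Steinberg relations over a finite field force the SL₂ rules.
-/

set_option autoImplicit false

namespace CfsgLib.SL2Pres

open Multiplicative (ofAdd)

variable {F : Type*} [Field F] {G : Type*} [Group G]

/-- The rank one Steinberg relations, with `e b` the two root maps. -/
structure St2 (e : Bool → F → G) : Prop where
  add : ∀ b t u, e b (t + u) = e b t * e b u
  rel : ∀ b t u, t ≠ 0 → (e b t * e (!b) (-t⁻¹) * e b t) * e b u * (e b t * e (!b) (-t⁻¹) * e b t)⁻¹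
    = e (!b) (-(t⁻¹ ^ 2 * u))

variable {e : Bool → F → G} (S : St2 e)
include S

theorem St2.zero (b : Bool) : e b 0 = 1 := by
  have := S.add b 0 0
  rw [add_zero] at this
  exact left_eq_mul.1 this

theorem St2.neg (b : Bool) (t : F) : e b (-t) = (e b t)⁻¹ := by
  rw [eq_inv_iff_mul_eq_one, ← S.add, neg_add_cancel, S.zero]

omit S in
/-- The Weyl elements. -/
def wSt (e : Bool → F → G) (b : Bool) (t : F) : G := e b t * e (!b) (-t⁻¹) * e b t

theorem St2.w_conj (b : Bool) {t : F} (ht : t ≠ 0) (u : F) :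
    wSt e b t * e b u * (wSt e b t)⁻¹ = e (!b) (-(t⁻¹ ^ 2 * u)) := S.rel b t u ht

theorem St2.w_flip (b : Bool) {t : F} (ht : t ≠ 0) : wSt e b t = wSt e (!b) (-t⁻¹) := by
  have h := S.w_conj b ht t
  rw [show -(t⁻¹ ^ 2 * t) = -t⁻¹ by field_simp] at h
  have h' : e (!b) (-t⁻¹) * wSt e b t = wSt e b t * e b t := by rw [← h]; group
  calc wSt e b t = e (!b) (-t⁻¹) * wSt e b t * (e b t)⁻¹ := by rw [h', mul_inv_cancel_right]
    _ = _ := by
      simp only [wSt, Bool.not_not, inv_neg, inv_inv, neg_neg]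
      group

theorem St2.w_conj' (b : Bool) {t : F} (ht : t ≠ 0) (u : F) :
    wSt e b t * e (!b) u * (wSt e b t)⁻¹ = e b (-(t ^ 2 * u)) := by
  rw [S.w_flip b ht, S.w_conj (!b) (neg_ne_zero.2 (inv_ne_zero ht)), Bool.not_not]
  congr 1
  field_simp

theorem St2.w_inv (b : Bool) (t : F) : (wSt e b t)⁻¹ = wSt e b (-t) := by
  simp only [wSt, inv_neg, mul_inv_rev, ← S.neg, mul_assoc]

theorem St2.w_conj_w (b : Bool) {t u : F} (ht : t ≠ 0) (hu : u ≠ 0) :
    wSt e b t * wSt e b u * (wSt e b t)⁻¹ = wSt e b (t ^ 2 / u) := by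
  have e1 : wSt e b t * wSt e b u * (wSt e b t)⁻¹ = (wSt e b t * e b u * (wSt e b t)⁻¹)
      * (wSt e b t * e (!b) (-u⁻¹) * (wSt e b t)⁻¹) * (wSt e b t * e b u * (wSt e b t)⁻¹) := by
    simp only [wSt]; group
  rw [e1, S.w_conj b ht, S.w_conj' b ht, S.w_flip b (div_ne_zero (pow_ne_zero 2 ht) hu)]
  simp only [wSt, Bool.not_not]
  congr 1
  · congr 1
    · congr 1; field_simp
    · congr 1; field_simp
  · congr 1; field_simp

/-- The additive relation between Weyl elements. -/
theorem St2.w_triple {A B : F} (hA : A ≠ 0) (hB : B ≠ 0) (hAB : A + B ≠ 0) :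
    wSt e true A * wSt e true (-(A + B)) * wSt e true B = wSt e true (A * B / (A + B)) := by
  set d := -(A + B) with hd
  have hd0 : d ≠ 0 := neg_ne_zero.2 hAB
  have hyw : ∀ {a : F}, a ≠ 0 → e false (-a⁻¹) = e true (-a) * wSt e true a * e true (-a) := by
    intro a _
    simp only [wSt, S.neg, Bool.not_true]
    group
  have hxw : e true d = e false d⁻¹ * wSt e true d * e false d⁻¹ := by
    rw [S.w_flip true hd0]
    simp only [wSt, Bool.not_true, Bool.not_false, inv_neg, inv_inv, neg_neg, S.neg]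
    group
  have m1 : wSt e true A * e false d⁻¹ = e true (-(A ^ 2 * d⁻¹)) * wSt e true A := by
    rw [← S.w_conj' true hA, Bool.not_true, inv_mul_cancel_right]
  have m2 : e false d⁻¹ * wSt e true B = wSt e true B * e true (-(B ^ 2 * d⁻¹)) := by
    have h := S.w_conj true hB (-(B ^ 2 * d⁻¹))
    rw [Bool.not_true, show -(B⁻¹ ^ 2 * (-(B ^ 2 * d⁻¹))) = d⁻¹ by field_simp] at h
    rw [← h, inv_mul_cancel_right]
  set C := A * B / (A + B) with hC
  have hC0 : C ≠ 0 := div_ne_zero (mul_ne_zero hA hB) hAB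
  have key : e false (-A⁻¹) * e false (-B⁻¹) = e false (-C⁻¹) := by
    rw [← S.add]; congr 1; rw [hC]; field_simp; ring
  rw [hyw hA, hyw hB, hyw hC0] at key
  have key2 : e true (-A + -(A ^ 2 * d⁻¹))
      * (wSt e true A * wSt e true d * wSt e true B) * e true (-(B ^ 2 * d⁻¹) + -B)
      = e true (-C) * wSt e true C * e true (-C) := by
    rw [← key, S.add true (-A), S.add true (-(B ^ 2 * d⁻¹))]
    have hmid : e true (-A) * e true (-B) = e true d := by rw [← S.add, hd]; congr 1; ring
    calc e true (-A) * e true (-(A ^ 2 * d⁻¹)) * (wSt e true A * wSt e true d * wSt e true B)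
          * (e true (-(B ^ 2 * d⁻¹)) * e true (-B))
        = e true (-A) * (e true (-(A ^ 2 * d⁻¹)) * wSt e true A) * wSt e true d
            * (wSt e true B * e true (-(B ^ 2 * d⁻¹))) * e true (-B) := by group
      _ = e true (-A) * wSt e true A * (e false d⁻¹ * wSt e true d * e false d⁻¹)
            * wSt e true B * e true (-B) := by rw [← m1, ← m2]; group
      _ = e true (-A) * wSt e true A * (e true (-A) * e true (-B)) * wSt e true B * e true (-B) := by
          rw [← hxw, hmid]
      _ = _ := by group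
  rw [show -A + -(A ^ 2 * d⁻¹) = -C by rw [hC, hd]; field_simp; ring,
    show -(B ^ 2 * d⁻¹) + -B = -C by rw [hC, hd]; field_simp; ring] at key2
  exact mul_left_cancel (mul_right_cancel key2)

omit S in
/-- Torus elements. -/
def hSt (e : Bool → F → G) (t : F) : G := wSt e true t * (wSt e true 1)⁻¹

theorem St2.w_eq (t : F) : wSt e true t = hSt e t * wSt e true 1 := by
  rw [hSt, inv_mul_cancel_right]

theorem St2.w_h {t : F} (ht : t ≠ 0) : wSt e true 1 * hSt e t * (wSt e true 1)⁻¹ = hSt e t⁻¹ := by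
  rw [hSt, ← mul_assoc, S.w_conj_w true one_ne_zero ht, one_pow, one_div, hSt]

theorem St2.h_conj {t : F} (ht : t ≠ 0) (u : F) :
    hSt e t * e true u * (hSt e t)⁻¹ = e true (t ^ 2 * u) := by
  have h1 : (wSt e true 1)⁻¹ * e true u * wSt e true 1 = e false (-u) := by
    have := S.w_conj' true one_ne_zero (-u)
    simp only [Bool.not_true, one_pow, one_mul, neg_neg] at this
    rw [← this]; group
  calc hSt e t * e true u * (hSt e t)⁻¹
      = wSt e true t * ((wSt e true 1)⁻¹ * e true u * wSt e true 1) * (wSt e true t)⁻¹ := by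
        rw [hSt]; group
    _ = _ := by
      rw [h1, ← Bool.not_true, S.w_conj' true ht]
      congr 1; ring

theorem St2.h_conj_w {t u : F} (ht : t ≠ 0) (hu : u ≠ 0) :
    hSt e t * wSt e true u = wSt e true (t ^ 2 * u) * hSt e t := by
  have : hSt e t * wSt e true u * (hSt e t)⁻¹ = wSt e true (t ^ 2 * u) := by
    calc hSt e t * wSt e true u * (hSt e t)⁻¹
        = wSt e true t * ((wSt e true 1)⁻¹ * wSt e true u * ((wSt e true 1)⁻¹)⁻¹)
            * (wSt e true t)⁻¹ := by rw [hSt]; group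
      _ = _ := by
        rw [S.w_inv, S.w_conj_w true (neg_ne_zero.2 one_ne_zero) hu, neg_one_sq,
          S.w_conj_w true ht (div_ne_zero one_ne_zero hu)]
        congr 1
        field_simp
  rw [← this, inv_mul_cancel_right]

theorem St2.h_sq_mul {t u : F} (ht : t ≠ 0) (hu : u ≠ 0) :
    hSt e (t ^ 2 * u) = hSt e t * hSt e u * (hSt e t⁻¹)⁻¹ := by
  have h := S.h_conj_w ht hu
  rw [S.w_eq u, S.w_eq (t ^ 2 * u)] at h
  have h2 : wSt e true 1 * hSt e t = hSt e t⁻¹ * wSt e true 1 := by
    rw [← S.w_h ht, inv_mul_cancel_right]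
  rw [mul_assoc (hSt e (t ^ 2 * u)), h2, ← mul_assoc, ← mul_assoc] at h
  exact eq_mul_inv_iff_mul_eq.2 (mul_right_cancel h).symm

theorem St2.h_one : hSt e (1 : F) = 1 := by rw [hSt, mul_inv_cancel]

theorem St2.h_sq_mul' {t u : F} (ht : t ≠ 0) (hu : u ≠ 0) :
    hSt e (t ^ 2 * u) = hSt e t * hSt e u * (hSt e t)⁻¹ * hSt e (t ^ 2) := by
  have h1 := S.h_sq_mul ht (one_ne_zero (α := F))
  rw [mul_one, S.h_one, mul_one] at h1
  rw [S.h_sq_mul ht hu, h1]
  group

/-- The main computation: `h` has the expected order. -/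
theorem St2.exists_rules [Fintype F] {t : Fˣ} (ht : ∀ x : Fˣ, ∃ k : ℕ, t ^ k = x) (n : ℕ)
    (hn : (t : F) ^ n = -1) :
    ∃ D : Rules G ((t : F) ^ 2) (orderOf t) n,
      (∀ c, D.X (ofAdd c) = e true c) ∧ D.w = wSt e true 1 ∧ D.h = hSt e (t : F) := by
  classical
  set τ := (t : F) with hτ
  have hτ0 : τ ≠ 0 := t.ne_zero
  set H := hSt e τ with hH
  set H2 := hSt e (τ ^ 2) with hH2
  have hstep : ∀ u : F, u ≠ 0 → hSt e (τ ^ 2 * u) = H * hSt e u * H⁻¹ * H2 :=
    fun u hu => S.h_sq_mul' hτ0 hu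
  have hcomm : Commute H H2 := by
    -- two expansions of the same conjugate
    have e1 := S.h_sq_mul hτ0 hτ0
    have e2 := S.h_sq_mul hτ0 (one_ne_zero (α := F))
    rw [mul_one, S.h_one, mul_one] at e2
    have e3 := S.w_h hτ0
    rw [← hH] at e1 e2 e3
    show H * H2 = H2 * H
    have e4 : H * hSt e τ⁻¹ = hSt e τ⁻¹ * H := by
      have h := S.h_sq_mul (inv_ne_zero hτ0) (pow_ne_zero 2 hτ0)
      rw [show τ⁻¹ ^ 2 * τ ^ 2 = 1 by field_simp, S.h_one, inv_inv, ← hH, e2] at h
      have h' : hSt e τ⁻¹ * H = H * hSt e τ⁻¹ := by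
        calc hSt e τ⁻¹ * H = hSt e τ⁻¹ * (H * (hSt e τ⁻¹)⁻¹) * H⁻¹ * (H * hSt e τ⁻¹) := by group
          _ = _ := by rw [← h, one_mul]
      exact h'.symm
    rw [hH2, e2, ← mul_assoc]
    have e5 : H * (hSt e τ⁻¹)⁻¹ = (hSt e τ⁻¹)⁻¹ * H := (show Commute H (hSt e τ⁻¹) from e4).inv_right.eq
    rw [mul_assoc (H) ((hSt e τ⁻¹)⁻¹) H, ← e5, mul_assoc]
  have heven : ∀ i : ℕ, hSt e (τ ^ (2 * i)) = H2 ^ i := by
    intro i
    induction i with
    | zero => simp [S.h_one]
    | succ i ih =>
      rw [show τ ^ (2 * (i + 1)) = τ ^ 2 * τ ^ (2 * i) by ring, hstep _ (pow_ne_zero _ hτ0), ih,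
        (hcomm.pow_right i).eq, mul_inv_cancel_right, pow_succ]
  have hodd : ∀ i : ℕ, hSt e (τ ^ (2 * i + 1)) = H * H2 ^ i := by
    intro i
    induction i with
    | zero => simp [← hH]
    | succ i ih =>
      rw [show τ ^ (2 * (i + 1) + 1) = τ ^ 2 * τ ^ (2 * i + 1) by ring,
        hstep _ (pow_ne_zero _ hτ0), ih, mul_assoc H (H * H2 ^ i) H⁻¹,
        mul_assoc H (H2 ^ i) H⁻¹, ← ((hcomm.pow_right i).inv_left).eq, ← mul_assoc H H⁻¹,
        mul_inv_cancel, one_mul, pow_succ, mul_assoc]
  have hL : τ ^ orderOf t = 1 := by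
    rw [hτ, ← Units.val_pow_eq_pow_val, pow_orderOf_eq_one, Units.val_one]
  have hNpos : 0 < orderOf t := orderOf_pos t
  -- every element is a power of the generator
  have hall : ∀ x : F, x ≠ 0 → ∃ k, x = τ ^ k := fun x hx => by
    obtain ⟨k, hk⟩ := ht (Units.mk0 x hx)
    exact ⟨k, by rw [hτ, ← Units.val_pow_eq_pow_val, hk, Units.val_mk0]⟩
  have hmain : H2 = H * H := by
    rcases Nat.even_or_odd' (orderOf t) with ⟨r, hr | hr⟩
    · -- two non-squares adding up to one
      obtain ⟨i, j, hij⟩ : ∃ i j : ℕ, τ ^ (2 * i + 1) + τ ^ (2 * j + 1) = 1 := by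
        by_contra hno
        push Not at hno
        let Sq : Finset F := (Finset.range r).image fun i => τ ^ (2 * i)
        let Ns : Finset F := (Finset.range r).image fun i => τ ^ (2 * i + 1)
        have hmod : ∀ k : ℕ, τ ^ k = τ ^ (k % (2 * r)) := fun k => by
          conv_lhs => rw [← Nat.mod_add_div k (2 * r), pow_add, pow_mul, ← hr, hL, one_pow, mul_one]
          rw [hr]
        have hcl : ∀ x : F, x ≠ 0 → x ∈ Sq ∨ x ∈ Ns := by
          intro x hx
          obtain ⟨k, rfl⟩ := hall x hx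
          rw [hmod k]
          have hk : k % (2 * r) < 2 * r := Nat.mod_lt _ (by omega)
          rcases Nat.even_or_odd' (k % (2 * r)) with ⟨i, hi | hi⟩
          · exact Or.inl (Finset.mem_image.2 ⟨i, Finset.mem_range.2 (by omega), by rw [hi]⟩)
          · exact Or.inr (Finset.mem_image.2 ⟨i, Finset.mem_range.2 (by omega), by rw [hi]⟩)
        have hinj : ∀ {a b : ℕ}, a < 2 * r → b < 2 * r → τ ^ a = τ ^ b → a = b := by
          intro a b ha hb hab
          refine pow_injOn_Iio_orderOf (x := t) (by simpa [hr] using ha) (by simpa [hr] using hb) ?_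
          exact Units.ext (by simpa [Units.val_pow_eq_pow_val] using hab)
        have hcard : (Sq.erase 1).card + 1 ≤ Ns.card := by
          have h1 : (1 : F) ∈ Sq := Finset.mem_image.2 ⟨0, Finset.mem_range.2 (by omega), by simp⟩
          rw [Finset.card_erase_add_one h1]
          refine Finset.card_image_le.trans ?_
          rw [Finset.card_image_of_injOn]
          intro a ha b hb hab
          simp only [Finset.coe_range, Set.mem_Iio] at ha hb
          have := hinj (by omega) (by omega) hab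
          omega
        have hsub : Ns.image (fun x => 1 - x) ⊆ Sq.erase 1 := by
          intro z hz
          obtain ⟨x, hx, rfl⟩ := Finset.mem_image.1 hz
          obtain ⟨i, -, rfl⟩ := Finset.mem_image.1 hx
          have hne1 : (1 : F) - τ ^ (2 * i + 1) ≠ 1 := by
            simpa using pow_ne_zero (2 * i + 1) hτ0
          refine Finset.mem_erase.2 ⟨hne1, ?_⟩
          have hne0 : (1 : F) - τ ^ (2 * i + 1) ≠ 0 := by
            intro h0
            rw [sub_eq_zero, ← pow_zero τ, hmod (2 * i + 1)] at h0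
            have h6 := hinj (by omega) (Nat.mod_lt _ (by omega)) h0.symm.symm
            have h7 := Nat.mod_mod_of_dvd (2 * i + 1) (dvd_mul_right 2 r)
            rw [← h6] at h7
            omega
          rcases hcl _ hne0 with h | h
          · exact h
          · obtain ⟨j, -, hj⟩ := Finset.mem_image.1 h
            exact absurd (by rw [hj]; ring) (hno i j)
        have h5 : Ns.card ≤ (Sq.erase 1).card :=
          (Finset.card_image_of_injective Ns sub_right_injective).symm.le.trans
            (Finset.card_le_card hsub)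
        omega
      have hA : τ ^ (2 * i + 1) ≠ 0 := pow_ne_zero _ hτ0
      have hB : τ ^ (2 * j + 1) ≠ 0 := pow_ne_zero _ hτ0
      have h := S.w_triple hA hB (by rw [hij]; exact one_ne_zero)
      rw [hij, div_one, ← S.w_inv, S.w_eq (τ ^ (2 * i + 1)), mul_inv_cancel_right,
        S.w_eq (τ ^ (2 * j + 1)), ← mul_assoc, S.w_eq (_ * _)] at h
      have h' := mul_right_cancel h
      rw [hodd, hodd, ← pow_add, show 2 * i + 1 + (2 * j + 1) = 2 * (i + j + 1) by ring, heven,
        ← mul_assoc, mul_assoc H (H2 ^ i) H, ← ((hcomm.pow_right i)).eq, ← mul_assoc,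
        mul_assoc (H * H), ← pow_add, pow_succ' H2 (i + j)] at h'
      exact (mul_right_cancel h').symm
    · -- odd order: every element is a square
      have h1 := hodd (orderOf t + r)
      have h2 := heven (r + 1)
      rw [show 2 * (orderOf t + r) + 1 = orderOf t * 3 by omega, pow_mul, hL, one_pow, S.h_one]
        at h1
      have h3 := heven (orderOf t)
      rw [mul_comm 2, pow_mul, hL, one_pow, S.h_one] at h3
      rw [pow_add, ← h3, one_mul] at h1
      rw [show 2 * (r + 1) = orderOf t + 1 by omega, pow_add, hL, one_mul, pow_one, ← hH] at h2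
      have h4 : H2 ^ (orderOf t) = H2 ^ r * H2 ^ (r + 1) := by
        rw [← pow_add]; congr 1; omega
      rw [← h3, ← h2] at h4
      calc H2 = H2 * (H2 ^ r * H) := by rw [← h4, mul_one]
        _ = H2 ^ (r + 1) * H := by rw [← mul_assoc, ← pow_succ']
        _ = H * H := by rw [← h2]
  have hmul : ∀ k : ℕ, hSt e (τ ^ k) = H ^ k := by
    intro k
    rcases Nat.even_or_odd' k with ⟨i, rfl | rfl⟩
    · rw [heven, hmain, ← pow_two, ← pow_mul]
    · rw [hodd, hmain, ← pow_two, ← pow_mul, ← pow_succ']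
  let X : Multiplicative F →* G :=
    { toFun := fun c => e true c.toAdd
      map_one' := S.zero true
      map_mul' := fun a b => S.add true _ _ }
  refine ⟨{ X := X, h := H, w := wSt e true 1, conj := fun c => S.h_conj hτ0 c
            pow_N := ?_, whw := ?_, ww := ?_ }, fun c => rfl, rfl, rfl⟩
  · rw [← hmul, hL, S.h_one]
  · have e1 : hSt e τ⁻¹ * H = 1 := by
      obtain ⟨L, hL'⟩ := Nat.exists_eq_add_one_of_ne_zero hNpos.ne'
      have : τ⁻¹ = τ ^ L := inv_eq_of_mul_eq_one_right (by rw [← pow_succ', ← hL', hL])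
      rw [this, hmul, ← pow_succ, ← hmul, ← hL', hL, S.h_one]
    rw [eq_inv_iff_mul_eq_one, S.w_h hτ0, e1]
  · rw [← hmul, hn, hSt]
    have hw1 : (wSt e true 1)⁻¹ = wSt e true (-1) := S.w_inv true 1
    have h := S.w_conj_w true (one_ne_zero (α := F)) (one_ne_zero (α := F))
    rw [← hw1]
    have hn' : (-1 : F) ^ 2 = 1 := neg_one_sq
    calc wSt e true 1 * wSt e true 1
        = wSt e true 1 * (wSt e true (-1))⁻¹ := by rw [← hw1, inv_inv]
      _ = wSt e true 1 * (wSt e true (-1))⁻¹ := rfl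
      _ = _ := by
        -- the square of the Weyl element is `h (-1)`
        have hsq : hSt e (-1 : F) * hSt e (-1 : F) = 1 := by
          rw [← hn, hmul, ← pow_add, ← hmul, pow_add, hn, neg_mul_neg, one_mul, S.h_one]
        rw [← hw1, inv_inv]
        rw [hSt, ← hw1, mul_eq_one_iff_eq_inv, mul_inv_rev, inv_inv] at hsq
        exact hsq.symm

end CfsgLib.SL2Pres
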