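import Mathlib
import Cfsg.Agent.Lib.SL2Pres.Models
import Cfsg.Agent.Lib.SL2Pres.Abelian

/-!
A pair of elements satisfying the rules of `SL₂(16)` gives an embedding of `SL₂(16)`.
-/

set_option autoImplicit false
set_option maxHeartbeats 400000

namespace CfsgLib.SL2Pres.Sixteen

open Polynomial
open Multiplicative (ofAdd)
open scoped MatrixGroups

section Field

variable {E : Type*} [Field E] [Fintype E]

theorem two_eq (hE : Fintype.card E = 16) : (2 : E) = 0 := by
  have h : ((Fintype.card E : ℕ) : E) = 0 := Nat.cast_card_eq_zero E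
  rw [hE] at h
  have h' : (2 : E) ^ 4 = 0 := by rw [← h]; norm_num
  exact pow_eq_zero_iff (by norm_num) |>.1 h'

theorem exists_root (hE : Fintype.card E = 16) : ∃ s : E, s ^ 4 = s + 1 := by
  classical
  have h2 := two_eq hE
  set q : E[X] := X ^ 12 + (X ^ 9 + X ^ 8 + X ^ 6 + X ^ 4 + X ^ 3 + X ^ 2 + X) with hq
  have hq0 : q ≠ 0 := fun h => by simpa [hq, coeff_X] using congrArg (fun p : E[X] => p.coeff 12) h
  have hdeg : q.natDegree ≤ 12 := by
    rw [hq]
    compute_degree
  obtain ⟨x, hx⟩ : ∃ x : E, q.eval x ≠ 0 := by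
    by_contra hno
    push Not at hno
    have hsub : (Finset.univ : Finset E) ⊆ q.roots.toFinset := fun x _ => by
      rw [Multiset.mem_toFinset, mem_roots hq0]
      exact hno x
    have h1 := Finset.card_le_card hsub
    rw [Finset.card_univ, hE] at h1
    have h3 : q.roots.toFinset.card ≤ 12 :=
      ((Multiset.toFinset_card_le _).trans (card_roots' q)).trans hdeg
    omega
  refine ⟨x, ?_⟩
  have hp : x ^ 16 = x := hE ▸ FiniteField.pow_card x
  have hz : (x ^ 4 - (x + 1)) * q.eval x = 0 := by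
    simp only [hq, eval_add, eval_pow, eval_X]
    grind
  exact sub_eq_zero.1 ((mul_eq_zero.1 hz).resolve_right hx)

theorem root_facts {s : E} (hE : Fintype.card E = 16) (hs : s ^ 4 = s + 1) :
    s ≠ 0 ∧ s ^ 15 = 1 ∧ s ^ 3 ≠ 1 ∧ s ^ 5 ≠ 1 := by
  have h2 := two_eq hE
  have h0 : s ≠ 0 := fun h => by simp [h] at hs
  have h15 : s ^ 15 = 1 := by
    have := FiniteField.pow_card_sub_one_eq_one s h0
    rwa [hE] at this
  have h3 : s ^ 3 ≠ 1 := fun h => by
    have : (1 : E) = 0 := by linear_combination (s * h - hs)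
    exact one_ne_zero this
  refine ⟨h0, h15, h3, fun h => h3 ?_⟩
  have : s ^ 2 + s + 1 = 0 := by grind
  linear_combination (s - 1) * this

theorem root_powers {s : E} (hE : Fintype.card E = 16) (hs : s ^ 4 = s + 1) :
    ∀ c : E, c ≠ 0 → ∃ k, k < 15 ∧ s ^ k = c := by
  classical
  obtain ⟨h0, h15, h3, h5⟩ := root_facts hE hs
  have hord : orderOf s = 15 := by
    have hd := orderOf_dvd_of_pow_eq_one h15
    have hmem : orderOf s ∈ Nat.divisors 15 := Nat.mem_divisors.2 ⟨hd, by norm_num⟩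
    have hp := pow_orderOf_eq_one s
    rw [show Nat.divisors 15 = {1, 3, 5, 15} by decide +kernel] at hmem
    simp only [Finset.mem_insert, Finset.mem_singleton] at hmem
    rcases hmem with h | h | h | h <;> rw [h] at hp
    · exact absurd (by rw [pow_one] at hp; rw [hp, one_pow]) h3
    · exact absurd hp h3
    · exact absurd hp h5
    · exact h
  intro c hc
  have hsub : (Finset.range 15).image (s ^ ·) = (Finset.univ : Finset E).erase 0 := by
    refine Finset.eq_of_subset_of_card_le (fun x hx => ?_) ?_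
    · obtain ⟨k, -, rfl⟩ := Finset.mem_image.1 hx
      exact Finset.mem_erase.2 ⟨pow_ne_zero _ h0, Finset.mem_univ _⟩
    · rw [Finset.card_erase_of_mem (Finset.mem_univ _), Finset.card_univ, hE,
        Finset.card_image_of_injOn (by
          rw [← hord, Finset.coe_range]; exact pow_injOn_Iio_orderOf), Finset.card_range]
  have hmem : c ∈ (Finset.range 15).image (s ^ ·) :=
    hsub ▸ Finset.mem_erase.2 ⟨hc, Finset.mem_univ _⟩
  obtain ⟨k, hk, rfl⟩ := Finset.mem_image.1 hmem
  exact ⟨k, Finset.mem_range.1 hk, rfl⟩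

theorem root_span {s : E} (hE : Fintype.card E = 16) (hs : s ^ 4 = s + 1) (c : E) :
    ∃ P : ℤ[X], aeval s P = c := by
  rcases eq_or_ne c 0 with rfl | hc
  · exact ⟨0, map_zero _⟩
  · obtain ⟨k, -, rfl⟩ := root_powers hE hs c hc
    exact ⟨X ^ k, by simp⟩

/-- The polynomial of the root. -/
noncomputable def fPol : ℤ[X] := X ^ 4 + X + 1

theorem root_ker {s : E} (hE : Fintype.card E = 16) (hs : s ^ 4 = s + 1) :
    ∀ P : ℤ[X], aeval s P = 0 → ∃ Q R : ℤ[X], P = fPol * Q + C ((2 : ℕ) : ℤ) * R := by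
  have h2 := two_eq hE
  have : Fact (Nat.Prime 2) := ⟨Nat.prime_two⟩
  haveI : CharP E 2 := (CharP.charP_iff_prime_eq_zero Nat.prime_two).2 (by exact_mod_cast h2)
  letI : Algebra (ZMod 2) E := ZMod.algebra E 2
  have hmap : ∀ P : ℤ[X], aeval s (P.map (Int.castRingHom (ZMod 2))) = aeval s P := fun P => by
    rw [← algebraMap_int_eq, aeval_map_algebraMap]
  have hfs : aeval s fPol = 0 := by
    simp only [fPol, map_add, map_pow, aeval_X, map_one]
    linear_combination hs + (s + 1) * h2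
  have hfmap : fPol.map (Int.castRingHom (ZMod 2)) = X ^ 4 + X + 1 := by simp [fPol]
  have hint : IsIntegral (ZMod 2) s := IsIntegral.of_finite _ s
  have hdeg : (minpoly (ZMod 2) s).natDegree = 4 := by
    rw [← IntermediateField.adjoin.finrank hint]
    have htop : IntermediateField.adjoin (ZMod 2) {s} = (⊤ : IntermediateField (ZMod 2) E) := by
      refine eq_top_iff.2 fun c _ => ?_
      rcases eq_or_ne c 0 with rfl | hc
      · exact zero_mem _
      · obtain ⟨k, -, rfl⟩ := root_powers hE hs c hc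
        exact pow_mem (IntermediateField.mem_adjoin_simple_self _ s) k
    rw [htop, IntermediateField.finrank_top']
    have h := Module.card_eq_pow_finrank (K := ZMod 2) (V := E)
    rw [hE, ZMod.card] at h
    exact Nat.pow_right_injective le_rfl (h.symm.trans (by norm_num : (16 : ℕ) = 2 ^ 4))
  have hmin : minpoly (ZMod 2) s = fPol.map (Int.castRingHom (ZMod 2)) := by
    refine (eq_of_monic_of_dvd_of_natDegree_le (minpoly.monic hint) ?_
      (minpoly.dvd _ _ ((hmap fPol).trans hfs)) ?_).symm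
    · rw [hfmap]; monicity!
    · rw [hdeg, hfmap]
      compute_degree
  intro P hP
  obtain ⟨Q₀, hQ₀⟩ := minpoly.dvd (ZMod 2) s (show aeval s (P.map (Int.castRingHom (ZMod 2))) = 0 by
    rw [hmap, hP])
  obtain ⟨Q, rfl⟩ := Polynomial.map_surjective (Int.castRingHom (ZMod 2)) ZMod.intCast_surjective Q₀
  have h0 : (P - fPol * Q).map (Int.castRingHom (ZMod 2)) = 0 := by
    rw [Polynomial.map_sub, Polynomial.map_mul, hQ₀, hmin, sub_self]
  obtain ⟨R, hR⟩ : C ((2 : ℕ) : ℤ) ∣ P - fPol * Q := by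
    rw [C_dvd_iff_dvd_coeff]
    intro i
    have := congrArg (fun q => q.coeff i) h0
    simp only [coeff_map, coeff_zero, eq_intCast] at this
    exact (ZMod.intCast_zmod_eq_zero_iff_dvd _ 2).1 this
  exact ⟨Q, R, by rw [← hR]; ring⟩

end Field

section Hom

variable {E : Type*} [Field E] [Fintype E] {G : Type*} [Group G]

/-- The relations among the three elements. -/
structure Rel (u h w : G) : Prop where
  uu : u * u = 1
  hh : h ^ 15 = 1
  tri : h * u * h⁻¹ = h ^ 4 * u * (h ^ 4)⁻¹ * u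
  com : u * (h * u * h⁻¹) = h * u * h⁻¹ * u
  wh : w * h * w⁻¹ = h⁻¹
  ww : w * w = 1
  cube : (u * w) ^ 3 = 1
  u_ne : u ≠ 1
  h3 : h ^ 3 ≠ 1
  h5 : h ^ 5 ≠ 1

theorem Rel.exists_rules {u h w : G} (R : Rel u h w) {s : E} (hE : Fintype.card E = 16)
    (hs : s ^ 4 = s + 1) :
    ∃ D : Rules G s 15 0, D.X (ofAdd 1) = u ∧ D.h = h ∧ D.w = w := by
  have h2 := two_eq hE
  have : Fact (Nat.Prime 2) := ⟨Nat.prime_two⟩
  haveI : CharP E 2 := (CharP.charP_iff_prime_eq_zero Nat.prime_two).2 (by exact_mod_cast h2)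
  have c1 : cj h u 1 = h * u * h⁻¹ := by simp [cj]
  have c4 : cj h u 4 = h ^ 4 * u * (h ^ 4)⁻¹ := by simp [cj, zpow_ofNat]
  have tri : cj h u 1 = cj h u 4 * u := by rw [c1, c4]; exact R.tri
  have hall : ∀ i : ℤ, Commute u (cj h u (i * 1)) := fun i => by
    simpa using commute_lattice tri (by rw [c1]; exact R.com) i 0
  obtain ⟨X', hX1, hXh⟩ := exists_hom h u 1 hall s s (root_span hE hs) fPol Polynomial.X
    (p := 2) (by rw [pow_two]; exact R.uu) (by
      have hd : fPol.natDegree = 4 := by unfold fPol; compute_degree!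
      have hcm : Commute (cj h u 1) u := by rw [c1]; exact R.com.symm
      have key : u * cj h u 1 * cj h u 4 = 1 := by
        have h1 : cj h u 4 = cj h u 1 * u := by rw [tri, mul_assoc, R.uu, mul_one]
        have h3 : cj h u 1 * cj h u 1 = 1 := by rw [cj, conj_mul, R.uu]; simp
        rw [h1, ← mul_assoc, mul_assoc u, h3, mul_one, R.uu]
      rw [polyWord, hd]
      simp [List.range_succ, fPol, coeff_one, coeff_X, coeff_X_pow, cj_zero, mul_assoc] at key ⊢
      exact key)
    (root_ker hE hs) (by simp [polyWord, List.range_succ, cj, coeff_X]) (aeval_X s)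
  exact ⟨{ X := X', h := h, w := w, conj := hXh, pow_N := R.hh, whw := R.wh,
           ww := by rw [R.ww, pow_zero] }, hX1, rfl, rfl⟩

/-- An embedding of `SL₂(16)` from the relations. -/
theorem Rel.exists_hom {u h w : G} (R : Rel u h w) (hE : Fintype.card E = 16) :
    ∃ φ : Matrix.SpecialLinearGroup (Fin 2) E →* G, Function.Injective φ ∧
      ∀ x, φ x ∈ Subgroup.closure ({u, h, w} : Set G) := by
  classical
  obtain ⟨s, hs⟩ := exists_root hE
  obtain ⟨hs0, hs15, hs3, hs5⟩ := root_facts hE hs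
  have h2 := two_eq hE
  haveI : CharP E 2 := (CharP.charP_iff_prime_eq_zero Nat.prime_two).2 (by exact_mod_cast h2)
  obtain ⟨t, ht2⟩ : ∃ t : Eˣ, (t : E) ^ 2 = s := ⟨Units.mk0 s hs0 ^ 8, by
    rw [Units.val_pow_eq_pow_val, ← pow_mul, Units.val_mk0, pow_succ, hs15, one_mul]⟩
  subst ht2
  have hts : ∀ x : Eˣ, ∃ k : ℕ, t ^ k = x := fun x => by
    obtain ⟨k, -, hk⟩ := root_powers hE hs x x.ne_zero
    refine ⟨2 * k, Units.ext ?_⟩
    rw [Units.val_pow_eq_pow_val, pow_mul, hk]
  have hot : orderOf t = 15 := by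
    rw [orderOf_eq_card_of_forall_mem_zpowers (fun x => by
      obtain ⟨k, hk⟩ := hts x
      exact ⟨(k : ℤ), by simpa using hk⟩), Nat.card_eq_fintype_card,
      Fintype.card_units, hE]
  have hspan := root_span hE hs
  set M := slModel t hts hspan 0 (by rw [pow_zero, CharTwo.neg_eq]) with hM
  obtain ⟨D, hDu, hDh, hDw⟩ := R.exists_rules hE hs
  -- the graph
  set T := Matrix.SpecialLinearGroup (Fin 2) E
  have hs'0 : (t : E) ^ 2 ≠ 0 := hs0
  set L : Subgroup (G × T) :=
    Subgroup.closure {(u, M.X (ofAdd 1)), (h, M.h), (w, M.w)} with hL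
  have hmem : ∀ c : E, (D.X (ofAdd c), M.X (ofAdd c)) ∈ L := by
    intro c
    rcases eq_or_ne c 0 with rfl | hc
    · rw [ofAdd_zero, map_one, map_one]; exact Subgroup.one_mem L
    · obtain ⟨k, hk, rfl⟩ := root_powers hE hs c hc
      have e1 := D.conj_pow k 1
      have e2 := M.conj_pow k 1
      rw [mul_one] at e1 e2
      have h1 : (u, M.X (ofAdd 1)) ∈ L := Subgroup.subset_closure (by simp)
      have h3 : (h, M.h) ∈ L := Subgroup.subset_closure (by simp)
      have h4 := mul_mem (mul_mem (pow_mem h3 k) h1) (inv_mem (pow_mem h3 k))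
      have e1' : D.h ^ k * D.X (ofAdd 1) = D.X (ofAdd (((t : E) ^ 2) ^ k)) * D.h ^ k := e1
      have e2' : M.h ^ k * M.X (ofAdd 1) = M.X (ofAdd (((t : E) ^ 2) ^ k)) * M.h ^ k := e2
      have : ((h, M.h) ^ k * (u, M.X (ofAdd 1)) * ((h, M.h) ^ k)⁻¹ : G × T) =
          (D.X (ofAdd (((t : E) ^ 2) ^ k)), M.X (ofAdd (((t : E) ^ 2) ^ k))) := by
        ext1
        · show h ^ k * u * (h ^ k)⁻¹ = _
          rw [← hDu, ← hDh, e1', mul_inv_cancel_right]
        · show M.h ^ k * M.X (ofAdd 1) * (M.h ^ k)⁻¹ = _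
          rw [e2', mul_inv_cancel_right]
      exact this ▸ h4
  let P : Rules L ((t : E) ^ 2) 15 0 :=
    { X := { toFun := fun c => ⟨(D.X c, M.X c), hmem c.toAdd⟩
             map_one' := Subtype.ext (by simp)
             map_mul' := fun a b => Subtype.ext (by simp) }
      h := ⟨(h, M.h), Subgroup.subset_closure (by simp)⟩
      w := ⟨(w, M.w), Subgroup.subset_closure (by simp)⟩
      conj := fun c => Subtype.ext (Prod.ext
        ((congrArg (fun g => g * D.X (ofAdd c) * g⁻¹) hDh).symm.trans (D.conj c)) (M.conj c))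
      pow_N := Subtype.ext (Prod.ext R.hh ((congrArg (M.h ^ ·) hot).symm.trans M.pow_N))
      whw := Subtype.ext (Prod.ext R.wh M.whw)
      ww := Subtype.ext (Prod.ext (by simpa using R.ww) M.ww) }
  have hgenP : Subgroup.closure ({P.X (ofAdd 1), P.h, P.w} : Set L) = ⊤ := by
    rw [eq_top_iff]
    rintro ⟨x, hx⟩ -
    induction hx using Subgroup.closure_induction with
    | mem y hy =>
      refine Subgroup.subset_closure ?_
      rcases hy with rfl | rfl | rfl
      · exact Or.inl (Subtype.ext (Prod.ext hDu.symm rfl))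
      · exact Or.inr (Or.inl rfl)
      · exact Or.inr (Or.inr rfl)
    | one => exact one_mem _
    | mul a b ha hb iha ihb => exact mul_mem iha ihb
    | inv a ha iha => exact inv_mem iha
  have hcov : ∀ c : E, c ≠ 0 → P.Cov c := by
    intro c hc
    obtain ⟨k, -, rfl⟩ := root_powers hE hs c hc
    have hcube : (P.X (ofAdd 1) * P.w) ^ 3 = 1 :=
      Subtype.ext (Prod.ext (by show (D.X (ofAdd 1) * w) ^ 3 = 1; rw [hDu]; exact R.cube) sl2_uw_cube)
    have := P.cov_mul (by norm_num) hs'0 (P.cov_one (by norm_num) hs'0 hcube) k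
    rwa [mul_one] at this
  have hnf := P.nf_all (by norm_num) hs'0 hgenP hcov
  -- kernel facts on the side of `G`
  have hX0 : ∀ a : E, D.X (ofAdd a) = 1 → a = 0 := by
    intro a ha
    by_contra hne
    obtain ⟨k, -, hk⟩ := root_powers hE hs a hne
    have e := D.conj_pow k 1
    rw [mul_one, hk, ha, one_mul, mul_eq_left, hDu] at e
    exact R.u_ne e
  have hord : orderOf h = 15 := by
    have hd := orderOf_dvd_of_pow_eq_one R.hh
    have hmem : orderOf h ∈ Nat.divisors 15 := Nat.mem_divisors.2 ⟨hd, by norm_num⟩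
    have hp := pow_orderOf_eq_one h
    rw [show Nat.divisors 15 = {1, 3, 5, 15} by decide +kernel] at hmem
    simp only [Finset.mem_insert, Finset.mem_singleton] at hmem
    rcases hmem with e | e | e | e <;> rw [e] at hp
    · exact absurd (by rw [pow_one] at hp; rw [hp, one_pow]) R.h3
    · exact absurd hp R.h3
    · exact absurd hp R.h5
    · exact e
  have hsmall : ∀ a k, k < 15 → D.X (ofAdd a) * h ^ k = 1 → a = 0 ∧ k = 0 := by
    intro a k hk he
    have h1 : h ^ k = D.X (ofAdd (-a)) := by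
      rw [ofAdd_neg, map_inv]; exact eq_inv_of_mul_eq_one_right he
    have h4 : h ^ (2 * k) = 1 := by
      rw [mul_comm, pow_mul, h1, ← map_pow]
      have hz : (ofAdd (-a) : Multiplicative E) ^ 2 = 1 := by
        rw [sq, ← ofAdd_add, CharTwo.add_self_eq_zero, ofAdd_zero]
      rw [hz, map_one]
    have hk0 : k = 0 := by
      have := orderOf_dvd_of_pow_eq_one h4
      rw [hord] at this
      omega
    subst hk0
    rw [pow_zero, mul_one] at he
    exact ⟨hX0 a he, rfl⟩
  have hbig : ∀ a k b, D.X (ofAdd a) * h ^ k * w * D.X (ofAdd b) ≠ 1 := by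
    intro a k b he
    -- `w` would normalise `X`, forcing `h` to be inverted modulo `X`
    have hw : w = (h ^ k)⁻¹ * (D.X (ofAdd a))⁻¹ * (D.X (ofAdd b))⁻¹ := by
      calc w = (h ^ k)⁻¹ * (D.X (ofAdd a))⁻¹ * (D.X (ofAdd a) * h ^ k * w * D.X (ofAdd b)) *
          (D.X (ofAdd b))⁻¹ := by group
        _ = _ := by rw [he, mul_one]
    have hx : (D.X (ofAdd a))⁻¹ * (D.X (ofAdd b))⁻¹ = D.X (ofAdd (-a + -b)) := by
      rw [← D.X_add, ofAdd_neg, ofAdd_neg, map_inv, map_inv]
    rw [mul_assoc, hx] at hw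
    have e := R.wh
    set d := -a + -b
    rw [hw] at e
    have e1 : (h ^ k)⁻¹ * (D.X (ofAdd d) * h * (D.X (ofAdd d))⁻¹) * h ^ k = h⁻¹ := by
      rw [← e]; group
    have e2 : D.X (ofAdd d) * h * (D.X (ofAdd d))⁻¹ = h⁻¹ := by
      calc _ = h ^ k * ((h ^ k)⁻¹ * (D.X (ofAdd d) * h * (D.X (ofAdd d))⁻¹) * h ^ k) * (h ^ k)⁻¹ := by
            group
        _ = h⁻¹ := by
          rw [e1, ((Commute.refl h).pow_left k).inv_right.eq, mul_inv_cancel_right]
    have e3 : D.X (ofAdd (d + (t : E) ^ 2 * -d)) * h ^ 2 = 1 := by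
      have h5 : D.X (ofAdd (d + (t : E) ^ 2 * -d)) * h = D.X (ofAdd d) * h * (D.X (ofAdd d))⁻¹ := by
        rw [← D.X_add, ← D.conj, hDh, ofAdd_neg, map_inv]
        group
      rw [pow_two h, ← mul_assoc, h5, e2, inv_mul_cancel]
    exact absurd (hsmall _ 2 (by norm_num) e3).2 (by norm_num)
  set p₂ : L →* T := (MonoidHom.snd G T).comp L.subtype with hp₂
  have hinj : Function.Injective p₂ := by
    rw [injective_iff_map_eq_one]
    intro g hg
    rcases hnf g with ⟨a, k, hk, rfl⟩ | ⟨a, k, b, rfl⟩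
    · have : M.X (ofAdd a) * M.h ^ k = 1 := hg
      obtain ⟨rfl, rfl⟩ := M.ker_small a k (hot.symm ▸ hk) this
      simp
    · have : M.X (ofAdd a) * M.h ^ k * M.w * M.X (ofAdd b) = 1 := hg
      exact absurd this (M.ker_big a k b)
  have hsurj : Function.Surjective p₂ := by
    rw [← MonoidHom.range_eq_top, eq_top_iff, ← M.gen, Subgroup.closure_le]
    rintro x (rfl | rfl | rfl)
    · exact ⟨⟨_, hmem 1⟩, rfl⟩
    · exact ⟨P.h, rfl⟩
    · exact ⟨P.w, rfl⟩
  let eT : L ≃* T := MulEquiv.ofBijective p₂ ⟨hinj, hsurj⟩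
  refine ⟨((MonoidHom.fst G T).comp L.subtype).comp eT.symm.toMonoidHom, ?_, fun x => ?_⟩
  · suffices h1 : Function.Injective ((MonoidHom.fst G T).comp L.subtype) from h1.comp eT.symm.injective
    rw [injective_iff_map_eq_one]
    intro g hg
    rcases hnf g with ⟨a, k, hk, rfl⟩ | ⟨a, k, b, rfl⟩
    · have : D.X (ofAdd a) * h ^ k = 1 := hg
      obtain ⟨rfl, rfl⟩ := hsmall a k hk this
      simp
    · have : D.X (ofAdd a) * h ^ k * w * D.X (ofAdd b) = 1 := hg
      exact absurd this (hbig a k b)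
  · have hle : L.map (MonoidHom.fst G T) ≤ Subgroup.closure ({u, h, w} : Set G) := by
      rw [hL, MonoidHom.map_closure]
      refine Subgroup.closure_mono ?_
      simp [Set.image_insert_eq]
    exact hle ⟨_, (eT.symm x).2, rfl⟩

end Hom

end CfsgLib.SL2Pres.Sixteen
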